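import Cfsg.Agent.Lib.SzModule.Exponent

/-!
# `2`-groups extended by `Sz(q)` with a fixed point free element of order five

The kernel is elementary abelian. The reduction follows `LocalEvenB.FpfExtension`.
-/

set_option autoImplicit false
set_option linter.all false
set_option maxHeartbeats 800000

namespace CfsgLib.SzModule

open CfsgLib.Lie.Suzuki
open scoped commutatorElement

variable {F : Type*} [Field F] [CharP F 2] [Fintype F] {m : ℕ}
  (hF : Fintype.card F = 2 ^ (2 * m + 1))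

include hF in
/-- The action on an abelian section. -/
theorem exists_act {G : Type*} [Group G] {A : Type*} [AddCommGroup A] (Q : Subgroup G) [Q.Normal]
    (e : G ⧸ Q ≃* Cfsg.Sz F m) (τ : G →* AddMonoid.End A) (hτ : ∀ q ∈ Q, τ q = 1)
    {x : G} (hx : e (x : G ⧸ Q) = five hF) (hfpf : ∀ a, τ x a = a → a = 0) :
    ∃ act : Cfsg.Sz F m →* AddMonoid.End A, (∀ (g : G) a, act (e (g : G ⧸ Q)) a = τ g a) ∧ Norm5 hF act := by
  let act : Cfsg.Sz F m →* AddMonoid.End A :=
    (QuotientGroup.lift Q τ (fun q hq => hτ q hq)).comp e.symm.toMonoidHom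
  have hact : ∀ (g : G) a, act (e (g : G ⧸ Q)) a = τ g a := fun g a => by
    show QuotientGroup.lift Q τ (fun q hq => hτ q hq) (e.symm (e (g : G ⧸ Q))) a = _
    rw [e.symm_apply_apply]; rfl
  refine ⟨act, hact, fun a => ?_⟩
  refine hfpf _ ?_
  rw [← hact, hx]
  simp only [map_add, ← act_mul, ← pow_succ']
  rw [show five hF * five hF = five hF ^ 2 from (pow_two _).symm, five_pow_five, act_one]
  abel

open Subgroup in
/-- A two-step section is elementary abelian. -/
theorem fpf_step (hm : 1 ≤ m) {G : Type*} [Group G] [Finite G]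
    (Q : Subgroup G) [Q.Normal] (e : G ⧸ Q ≃* Cfsg.Sz F m) {x : G} (hx : e (x : G ⧸ Q) = five hF)
    (hfpf : ∀ q ∈ Q, x * q * x⁻¹ = q → q = 1) (M : Subgroup G) [M.Normal] (hMQ : M ≤ Q)
    (hMc : ∀ m ∈ M, ∀ q ∈ Q, q * m = m * q) (hM2 : ∀ m ∈ M, m * m = 1)
    (hsq : ∀ q ∈ Q, q * q ∈ M) (hfpfQ : ∀ q ∈ Q, x * q * x⁻¹ * q⁻¹ ∈ M → q ∈ M) :
    ∀ q ∈ Q, q * q = 1 := by
  classical
  haveI : IsMulCommutative ↥M := ⟨⟨fun a b => Subtype.ext (hMc b.1 b.2 a.1 (hMQ a.2))⟩⟩
  letI : CommGroup ↥M := { (inferInstance : Group ↥M) with mul_comm := fun a b => Subtype.ext (hMc b.1 b.2 a.1 (hMQ a.2)) }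
  obtain ⟨π, hπ⟩ : ∃ π, π = QuotientGroup.mk' M := ⟨_, rfl⟩
  have hπs : Function.Surjective π := hπ ▸ QuotientGroup.mk'_surjective M
  have hπ1 : ∀ g, π g = 1 ↔ g ∈ M := fun g => by rw [hπ]; exact QuotientGroup.eq_one_iff g
  haveI hQn : (Q.map π).Normal := Subgroup.Normal.map inferInstance π hπs
  have hsq' : ∀ a : ↥(Q.map π), a * a = 1 := by
    rintro ⟨_, q, hq, rfl⟩
    exact Subtype.ext (by show π q * π q = 1; rw [← map_mul, hπ1]; exact hsq q hq)
  have hcommQ : ∀ a b : ↥(Q.map π), a * b = b * a := fun a b => by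
    have hinv : ∀ c : ↥(Q.map π), c⁻¹ = c := fun c => inv_eq_of_mul_eq_one_right (hsq' c)
    rw [← hinv (a * b), _root_.mul_inv_rev, hinv, hinv]
  letI : CommGroup ↥(Q.map π) := { (inferInstance : Group ↥(Q.map π)) with mul_comm := hcommQ }
  let τ : G →* AddMonoid.End (Additive ↥M) :=
    { toFun := fun g => MonoidHom.toAdditive (MulAut.conjNormal (H := M) g).toMonoidHom
      map_one' := DFunLike.ext _ _ fun a => by
        show Additive.ofMul (MulAut.conjNormal (H := M) 1 (Additive.toMul a)) = a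
        rw [map_one]; rfl
      map_mul' := fun g h => DFunLike.ext _ _ fun a => by
        show Additive.ofMul (MulAut.conjNormal (H := M) (g * h) (Additive.toMul a)) = Additive.ofMul (MulAut.conjNormal (H := M) g (MulAut.conjNormal (H := M) h (Additive.toMul a)))
        rw [map_mul]; rfl }
  have hτ : ∀ g a, ((Additive.toMul (τ g a) : ↥M) : G) = g * (Additive.toMul a : ↥M) * g⁻¹ := fun g a =>
    MulAut.conjNormal_apply g (Additive.toMul a)
  let τ' : G →* AddMonoid.End (Additive ↥(Q.map π)) :=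
    { toFun := fun g => MonoidHom.toAdditive (MulAut.conjNormal (H := Q.map π) (π g)).toMonoidHom
      map_one' := DFunLike.ext _ _ fun a => by
        show Additive.ofMul (MulAut.conjNormal (H := Q.map π) (π 1) (Additive.toMul a)) = a
        rw [map_one, map_one]; rfl
      map_mul' := fun g h => DFunLike.ext _ _ fun a => by
        show Additive.ofMul (MulAut.conjNormal (H := Q.map π) (π (g * h)) (Additive.toMul a)) = Additive.ofMul (MulAut.conjNormal (H := Q.map π) (π g) (MulAut.conjNormal (H := Q.map π) (π h) (Additive.toMul a)))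
        rw [map_mul, map_mul]; rfl }
  have hτ' : ∀ g a, ((Additive.toMul (τ' g a) : ↥(Q.map π)) : G ⧸ M) = π g * (Additive.toMul a : ↥(Q.map π)) * (π g)⁻¹ := fun g a =>
    MulAut.conjNormal_apply (π g) (Additive.toMul a)
  obtain ⟨act, hact, hrel⟩ := exists_act hF Q e τ (fun q hq => DFunLike.ext _ _ fun a => Additive.toMul.injective (Subtype.ext (by
    rw [hτ]
    show q * (Additive.toMul a : ↥M).1 * q⁻¹ = (Additive.toMul a : ↥M).1
    rw [hMc _ (Additive.toMul a).2 q hq, mul_inv_cancel_right]))) hx (fun a ha => by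
      refine Additive.toMul.injective (Subtype.ext (hfpf _ (hMQ (Additive.toMul a).2) ?_))
      rw [← hτ, ha])
  obtain ⟨act', hact', hrel'⟩ := exists_act hF Q e τ' (fun q hq => DFunLike.ext _ _ fun a => Additive.toMul.injective (Subtype.ext (by
    rw [hτ']
    have := congrArg Subtype.val (hcommQ ⟨π q, mem_map_of_mem π hq⟩ (Additive.toMul a))
    simp only [Subgroup.coe_mul] at this
    rw [this, mul_inv_cancel_right]; rfl))) hx (fun a ha => by
      obtain ⟨q, hq, hqa⟩ := (Additive.toMul a).2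
      have h1 : π (x * q * x⁻¹ * q⁻¹) = 1 := by
        have h2 := congrArg (fun b => ((Additive.toMul b : ↥(Q.map π)) : G ⧸ M)) ha
        simp only [hτ'] at h2
        rw [map_mul, map_mul, map_mul, map_inv, map_inv, hqa, h2, mul_inv_cancel]
      refine Additive.toMul.injective (Subtype.ext ?_)
      rw [← hqa]
      exact (hπ1 q).2 (hfpfQ q hq ((hπ1 _).1 h1)))
  have h2M : ∀ a : Additive ↥M, a + a = 0 := fun a => Additive.toMul.injective (Subtype.ext (hM2 _ (Additive.toMul a).2))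
  have h2Q : ∀ a : Additive ↥(Q.map π), a + a = 0 := fun a => Additive.toMul.injective (hsq' _)
  -- the commutator pairing
  have hsec : ∀ a : Additive ↥(Q.map π), ∃ q ∈ Q, π q = ((Additive.toMul a : ↥(Q.map π)) : G ⧸ M) := fun a => (Additive.toMul a).2
  choose sec hsQ hsec using hsec
  have hcommM : ∀ a ∈ Q, ∀ b ∈ Q, ⁅a, b⁆ ∈ M := fun a ha b hb => by
    rw [← hπ1, map_commutatorElement, commutatorElement_eq_one_iff_mul_comm]
    exact congrArg Subtype.val (hcommQ ⟨π a, mem_map_of_mem π ha⟩ ⟨π b, mem_map_of_mem π hb⟩)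
  have hwd : ∀ a ∈ Q, ∀ a' ∈ Q, ∀ b ∈ Q, ∀ b' ∈ Q, π a = π a' → π b = π b' → ⁅a, b⁆ = ⁅a', b'⁆ := by
    intro a ha a' ha' b hb b' hb' h1 h2
    obtain ⟨m, hm, rfl⟩ : ∃ m ∈ M, a = a' * m :=
      ⟨a'⁻¹ * a, (hπ1 _).1 (by rw [map_mul, map_inv, h1, inv_mul_cancel]), (mul_inv_cancel_left _ _).symm⟩
    obtain ⟨m', hm', rfl⟩ : ∃ m' ∈ M, b = b' * m' :=
      ⟨b'⁻¹ * b, (hπ1 _).1 (by rw [map_mul, map_inv, h2, inv_mul_cancel]), (mul_inv_cancel_left _ _).symm⟩
    rw [commutatorElement_def, commutatorElement_def, _root_.mul_inv_rev, _root_.mul_inv_rev]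
    have e1 : a' * m * (b' * m') = a' * b' * (m * m') := by
      rw [mul_assoc a' m, ← mul_assoc m b', ← hMc m hm b' hb', mul_assoc b' m, ← mul_assoc a']
    calc a' * m * (b' * m') * (m⁻¹ * a'⁻¹) * (m'⁻¹ * b'⁻¹)
        = a' * b' * ((m * m') * m⁻¹) * (a'⁻¹ * m'⁻¹) * b'⁻¹ := by rw [e1]; group
      _ = a' * b' * a'⁻¹ * b'⁻¹ := by
        rw [← hMc m' hm' m (hMQ hm)|>.symm, mul_inv_cancel_right, mul_assoc (a' * b'), ← mul_assoc m' a'⁻¹,
          ← hMc m' hm' a'⁻¹ (inv_mem ha'), mul_inv_cancel_right]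
  let B : Additive ↥(Q.map π) → Additive ↥(Q.map π) → Additive ↥M := fun a b =>
    Additive.ofMul ⟨⁅sec a, sec b⁆, hcommM _ (hsQ a) _ (hsQ b)⟩
  have hB : ∀ a b, ((Additive.toMul (B a b) : ↥M) : G) = ⁅sec a, sec b⁆ := fun _ _ => rfl
  have hl : ∀ a b c, B (a + b) c = B a c + B b c := fun a b c => Additive.toMul.injective (Subtype.ext (by
    show ⁅sec (a + b), sec c⁆ = ⁅sec a, sec c⁆ * ⁅sec b, sec c⁆
    rw [hwd _ (hsQ _) (sec a * sec b) (mul_mem (hsQ a) (hsQ b)) _ (hsQ c) _ (hsQ c)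
      (by rw [map_mul, hsec, hsec, hsec, toMul_add, Subgroup.coe_mul]) rfl]
    rw [show ⁅sec a * sec b, sec c⁆ = sec a * ⁅sec b, sec c⁆ * (sec a)⁻¹ * ⁅sec a, sec c⁆ by
      simp only [commutatorElement_def]; group]
    rw [hMc _ (hcommM _ (hsQ b) _ (hsQ c)) _ (hsQ a), mul_inv_cancel_right]
    exact (hMc _ (hcommM _ (hsQ b) _ (hsQ c)) _ (hMQ (hcommM _ (hsQ a) _ (hsQ c)))).symm))
  have hswap : ∀ a b, B b a = B a b := fun a b => Additive.toMul.injective (Subtype.ext (by
    show ⁅sec b, sec a⁆ = ⁅sec a, sec b⁆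
    rw [← commutatorElement_inv]
    exact inv_eq_of_mul_eq_one_right (hM2 _ (hcommM _ (hsQ a) _ (hsQ b)))))
  have hequiv : ∀ g a b, B (act' g a) (act' g b) = act g (B a b) := fun g a b => by
    obtain ⟨h, hh⟩ := QuotientGroup.mk_surjective (e.symm g)
    obtain rfl : e (h : G ⧸ Q) = g := by rw [hh, e.apply_symm_apply]
    refine Additive.toMul.injective (Subtype.ext ?_)
    rw [hact, hτ, hB, hB, hact', hact']
    have hqn : ∀ c, h * sec c * h⁻¹ ∈ Q := fun c => (inferInstance : Q.Normal).conj_mem _ (hsQ c) h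
    rw [hwd _ (hsQ _) _ (hqn a) _ (hsQ _) _ (hqn b) (by rw [hsec, hτ', map_mul, map_mul, map_inv, hsec])
      (by rw [hsec, hτ', map_mul, map_mul, map_inv, hsec])]
    simp only [commutatorElement_def]; group
  have hB0 := pairing_zero hF hm hrel' hrel' hrel h2Q h2Q h2M B hl
    (fun a b c => by rw [hswap, hl, hswap b, hswap c]) hequiv
  have hQc : ∀ a ∈ Q, ∀ b ∈ Q, a * b = b * a := fun a ha b hb => by
    rw [← commutatorElement_eq_one_iff_mul_comm]
    have h1 : ∀ c (hc : c ∈ Q), π (sec (Additive.ofMul (⟨π c, mem_map_of_mem π hc⟩ : ↥(Q.map π)))) = π c := fun c hc => hsec _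
    rw [hwd a ha _ (hsQ _) b hb _ (hsQ _) (h1 a ha).symm (h1 b hb).symm, ← hB, hB0]
    rfl
  letI : CommGroup ↥Q := { (inferInstance : Group ↥Q) with mul_comm := fun a b => Subtype.ext (hQc _ a.2 _ b.2) }
  let τ2 : G →* AddMonoid.End (Additive ↥Q) :=
    { toFun := fun g => MonoidHom.toAdditive (MulAut.conjNormal (H := Q) g).toMonoidHom
      map_one' := DFunLike.ext _ _ fun a => by
        show Additive.ofMul (MulAut.conjNormal (H := Q) 1 (Additive.toMul a)) = a
        rw [map_one]; rfl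
      map_mul' := fun g h => DFunLike.ext _ _ fun a => by
        show Additive.ofMul (MulAut.conjNormal (H := Q) (g * h) (Additive.toMul a)) = Additive.ofMul (MulAut.conjNormal (H := Q) g (MulAut.conjNormal (H := Q) h (Additive.toMul a)))
        rw [map_mul]; rfl }
  have hτ2 : ∀ g a, ((Additive.toMul (τ2 g a) : ↥Q) : G) = g * (Additive.toMul a : ↥Q) * g⁻¹ := fun g a =>
    MulAut.conjNormal_apply g (Additive.toMul a)
  obtain ⟨act2, -, hrel2⟩ := exists_act hF Q e τ2 (fun q hq => DFunLike.ext _ _ fun a => Additive.toMul.injective (Subtype.ext (by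
    rw [hτ2, hQc q hq _ (Additive.toMul a).2, mul_inv_cancel_right]; rfl))) hx (fun a ha => by
      refine Additive.toMul.injective (Subtype.ext (hfpf _ (Additive.toMul a).2 ?_))
      rw [← hτ2, ha])
  have h4 : ∀ a : Additive ↥Q, (a + a) + (a + a) = 0 := fun a => Additive.toMul.injective (Subtype.ext
    (hM2 _ (hsq _ (Additive.toMul a).2)))
  intro q hq
  exact congrArg (fun a : Additive ↥Q => ((Additive.toMul a : ↥Q) : G)) (exponent_two hF hm act2 hrel2 h4 (Additive.ofMul ⟨q, hq⟩))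

open Subgroup in
/-- The extension kernel is elementary abelian. -/
theorem sz_extension_elementary (hm : 1 ≤ m) :
    ∀ (n : ℕ) {G : Type*} [Group G] [Finite G] (Q : Subgroup G) [Q.Normal], Nat.card Q ≤ n → IsPGroup 2 Q →
      ∀ (e : G ⧸ Q ≃* Cfsg.Sz F m) (x : G), e (x : G ⧸ Q) = five hF → (∀ q ∈ Q, x * q * x⁻¹ = q → q = 1) →
      ∀ q ∈ Q, q * q = 1 := by
  intro n
  induction n using Nat.strong_induction_on with
  | _ n ih =>
    intro G _ _ Q _ hn hQ2 e x hx hfpf
    classical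
    by_cases hQ1 : Q = ⊥
    · intro q hq
      rw [hQ1, mem_bot] at hq
      rw [hq, mul_one]
    let M : Subgroup G :=
      { carrier := {m | m ∈ Q ∧ m * m = 1 ∧ ∀ q ∈ Q, q * m = m * q}
        one_mem' := ⟨one_mem _, one_mul _, fun q _ => by simp⟩
        mul_mem' := fun {a b} ha hb => ⟨mul_mem ha.1 hb.1, by
          rw [mul_assoc, ← mul_assoc b, hb.2.2 a ha.1 |>.symm, mul_assoc a b, hb.2.1, mul_one, ha.2.1],
          fun q hq => by rw [← mul_assoc, ha.2.2 q hq, mul_assoc, hb.2.2 q hq, mul_assoc]⟩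
        inv_mem' := fun {a} ha => by rw [inv_eq_of_mul_eq_one_right ha.2.1]; exact ha }
    haveI hMn : M.Normal := ⟨fun m hm g => ⟨(inferInstance : Q.Normal).conj_mem m hm.1 g, by
      calc g * m * g⁻¹ * (g * m * g⁻¹) = g * (m * m) * g⁻¹ := by group
        _ = 1 := by rw [hm.2.1]; group, fun q hq => by
      have h1 := hm.2.2 (g⁻¹ * q * g⁻¹⁻¹) ((inferInstance : Q.Normal).conj_mem q hq g⁻¹)
      calc q * (g * m * g⁻¹) = g * (g⁻¹ * q * g⁻¹⁻¹ * m) * g⁻¹ := by group
        _ = g * m * g⁻¹ * q := by rw [h1]; group⟩⟩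
    have hMQ : M ≤ Q := fun m hm => hm.1
    have hM1 : M ≠ ⊥ := by
      haveI : Fact (Nat.Prime 2) := ⟨Nat.prime_two⟩
      haveI : Nontrivial ↥Q := Q.nontrivial_iff_ne_bot.2 hQ1
      haveI := hQ2.center_nontrivial
      obtain ⟨k, hk⟩ := IsPGroup.iff_card.1 (hQ2.to_subgroup (center ↥Q))
      have hk1 : k ≠ 0 := fun h => by
        have h1 := Finite.one_lt_card (α := center ↥Q)
        rw [hk, h, pow_zero] at h1
        exact lt_irrefl _ h1
      obtain ⟨c, hc⟩ := exists_prime_orderOf_dvd_card' (G := center ↥Q) 2 (hk ▸ dvd_pow_self 2 hk1)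
      intro h0
      have hmem : ((c : ↥Q) : G) ∈ M := ⟨(c : ↥Q).2, by
        have h1 := pow_orderOf_eq_one c
        rw [hc, pow_two] at h1
        exact congrArg (fun z : center ↥Q => ((z : ↥Q) : G)) h1,
        fun q hq => congrArg Subtype.val (mem_center_iff.1 c.2 ⟨q, hq⟩)⟩
      rw [h0, mem_bot] at hmem
      have : c = 1 := Subtype.ext (Subtype.ext hmem)
      rw [this, orderOf_one] at hc
      norm_num at hc
    obtain ⟨π, hπ⟩ : ∃ π, π = QuotientGroup.mk' M := ⟨_, rfl⟩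
    have hπs : Function.Surjective π := hπ ▸ QuotientGroup.mk'_surjective M
    have hπ1 : ∀ g, π g = 1 ↔ g ∈ M := fun g => by rw [hπ]; exact QuotientGroup.eq_one_iff g
    have hfpfQ : ∀ q ∈ Q, x * q * x⁻¹ * q⁻¹ ∈ M → q ∈ M := by
      intro q hq hqm
      let f : ↥M → ↥M := fun m => ⟨x * m * x⁻¹ * (m : G)⁻¹, mul_mem (hMn.conj_mem _ m.2 x) (inv_mem m.2)⟩
      have hf : Function.Injective f := fun a b h => by
        have h1 : x * (a : G) * x⁻¹ * (a : G)⁻¹ = x * (b : G) * x⁻¹ * (b : G)⁻¹ := congrArg Subtype.val h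
        have h2 : x * ((b : G)⁻¹ * a) * x⁻¹ = (b : G)⁻¹ * a := by
          calc x * ((b : G)⁻¹ * a) * x⁻¹ = (x * (b : G) * x⁻¹)⁻¹ * (x * (a : G) * x⁻¹ * (a : G)⁻¹) * a := by group
            _ = (b : G)⁻¹ * a := by rw [h1]; group
        exact Subtype.ext (inv_mul_eq_one.1 (hfpf _ (mul_mem (inv_mem (hMQ b.2)) (hMQ a.2)) h2)).symm
      obtain ⟨m, hm⟩ := (Finite.injective_iff_surjective.1 hf) ⟨_, hqm⟩
      have hm' : x * (m : G) * x⁻¹ * (m : G)⁻¹ = x * q * x⁻¹ * q⁻¹ := congrArg Subtype.val hm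
      have h2 : x * ((m : G)⁻¹ * q) * x⁻¹ = (m : G)⁻¹ * q := by
        calc x * ((m : G)⁻¹ * q) * x⁻¹ = (x * (m : G) * x⁻¹)⁻¹ * (x * q * x⁻¹ * q⁻¹) * q := by group
          _ = (m : G)⁻¹ * q := by rw [← hm']; group
      rw [← inv_mul_eq_one.1 (hfpf _ (mul_mem (inv_mem (hMQ m.2)) hq) h2)]
      exact m.2
    haveI hQn : (Q.map (QuotientGroup.mk' M)).Normal :=
      Subgroup.Normal.map inferInstance _ (QuotientGroup.mk'_surjective M)
    have hcard : Nat.card ↥(Q.map (QuotientGroup.mk' M)) < n := by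
      refine lt_of_lt_of_le ?_ hn
      refine lt_of_le_of_ne (Nat.card_le_card_of_surjective _ ((QuotientGroup.mk' M).subgroupMap_surjective Q)) fun heq => hM1 ?_
      have hbij := (Nat.bijective_iff_surjective_and_card ((QuotientGroup.mk' M).subgroupMap Q)).2
        ⟨(QuotientGroup.mk' M).subgroupMap_surjective Q, heq.symm⟩
      rw [eq_bot_iff]
      intro m hm
      rw [mem_bot]
      exact congrArg Subtype.val (@hbij.1 ⟨m, hMQ hm⟩ 1 (Subtype.ext (by
        show QuotientGroup.mk' M m = QuotientGroup.mk' M 1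
        rw [map_one]; exact (QuotientGroup.eq_one_iff m).2 hm)))
    have hx' : ((QuotientGroup.quotientQuotientEquivQuotient M Q hMQ).trans e)
        ((QuotientGroup.mk' M x : G ⧸ M) : (G ⧸ M) ⧸ Q.map (QuotientGroup.mk' M)) = five hF := hx
    have hsq : ∀ q ∈ Q, q * q ∈ M := by
      intro q hq
      have hrec := ih _ hcard (Q.map (QuotientGroup.mk' M)) le_rfl (hQ2.map _)
        ((QuotientGroup.quotientQuotientEquivQuotient M Q hMQ).trans e) (QuotientGroup.mk' M x) hx' (by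
          rintro _ ⟨r, hr, rfl⟩ h
          refine (QuotientGroup.eq_one_iff r).2 (hfpfQ r hr ((QuotientGroup.eq_one_iff _).1 ?_))
          rw [← map_inv, ← map_mul, ← map_mul] at h
          show QuotientGroup.mk' M (x * r * x⁻¹ * r⁻¹) = 1
          rw [map_mul, h, ← map_mul, mul_inv_cancel, map_one]) _ (mem_map_of_mem _ hq)
      rw [← map_mul] at hrec
      exact (QuotientGroup.eq_one_iff _).1 hrec
    exact fpf_step hF hm Q e hx hfpf M hMQ (fun m hm => hm.2.2) (fun m hm => hm.2.1) hsq hfpfQ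

end CfsgLib.SzModule
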