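import Cfsg.Agent.Lib.SzModule.Mono
import Cfsg.Agent.Lib.Lie.Suzuki.Borel

/-!
# Modules for `Sz(q)`: weights, projections, relations

* `kA s`, `kB s`: torus elements scaling the two coordinates of the unipotent group by `s`
* `Eig φ ω`: weight vectors, `pr φ ω`: projection
* `Fpf5`: the norm of the element `uS 0 1 * wS` of order five vanishes
-/

set_option autoImplicit false
set_option linter.all false

namespace CfsgLib.SzModule

theorem add_self {F : Type*} [Field F] [CharP F 2] {V : Type*} [AddCommGroup V] [Module F V] (v : V) :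
    v + v = 0 := by
  rw [← two_smul F, CharTwo.two_eq_zero, zero_smul]

theorem eq_of_add_eq_zero {F : Type*} [Field F] [CharP F 2] {V : Type*} [AddCommGroup V] [Module F V] {v w : V}
    (h : v + w = 0) : v = w := by
  calc v = v + (w + w) := by rw [add_self (F := F), add_zero]
    _ = w := by rw [← add_assoc, h, zero_add]

open CfsgLib.Lie.Suzuki

variable {F : Type*} [Field F] [CharP F 2] [Fintype F] {m : ℕ}
  (hF : Fintype.card F = 2 ^ (2 * m + 1))

/-- Scales the second coordinate. -/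
def kB (s : Fˣ) : Cfsg.Sz F m := tS hF (sub_pow (hh m) s)

/-- Scales the first coordinate. -/
def kA (s : Fˣ) : Cfsg.Sz F m := tS hF (sub_pow (1 + hh m) s)

theorem kB_conj (s : Fˣ) (b : F) : kB hF s * uS hF 0 b = uS hF 0 (s * b) * kB hF s := by
  rw [kB, tS_conj_uS, mul_zero, th_tp hF, tp_sub_pow hF,
    show hh m * (2 * hh m) = 1 by rw [← two_hh_sq (m := m)]; ring, tp_one hF]

theorem kA_conj (s : Fˣ) (a : F) : kA hF s * uS hF a 0 = uS hF (s * a) 0 * kA hF s := by
  rw [kA, tS_conj_uS, mul_zero]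
  congr 2
  congr 1
  rw [th_tp hF, pow_two]
  have e : ((1 + hh m) + (1 + hh m) - (1 + hh m) * (2 * hh m) : Ex m) = 1 := by
    linear_combination -(two_hh_sq (m := m))
  rw [tp_sub_pow hF, sub_pow_val, ← tp_add hF, ← tp_sub hF, e, tp_one hF]

/-- The element of order five. -/
def five : Cfsg.Sz F m := uS hF 0 1 * wS hF

theorem w_z_w : wS hF * uS hF (0 : F) 1 * wS hF = uS hF 1 0 * wS hF * uS hF 1 1 := by
  refine Subtype.ext (Subtype.ext ?_)
  show wM * uM (th F m) 0 1 * wM = uM (th F m) 1 0 * wM * uM (th F m) 1 1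
  have h2 : (2 : F) = 0 := CharTwo.two_eq_zero
  ext i j
  fin_cases i <;> fin_cases j <;> simp [uM, wM, fQ, Matrix.mul_apply, Fin.sum_univ_four]
  all_goals grind

theorem w_f_w : wS hF * uS hF (1 : F) 0 * wS hF = uS hF 0 1 * wS hF * uS hF 1 0 := by
  refine Subtype.ext (Subtype.ext ?_)
  show wM * uM (th F m) 1 0 * wM = uM (th F m) 0 1 * wM * uM (th F m) 1 0
  have h2 : (2 : F) = 0 := CharTwo.two_eq_zero
  ext i j
  fin_cases i <;> fin_cases j <;> simp [uM, wM, fQ, Matrix.mul_apply, Fin.sum_univ_four]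
  all_goals grind

theorem five_two : five hF ^ 2 = uS hF (1 : F) 1 * wS hF * uS hF 1 1 := by
  rw [pow_two, five, show uS hF (0 : F) 1 * wS hF * (uS hF 0 1 * wS hF) =
    uS hF 0 1 * (wS hF * uS hF (0 : F) 1 * wS hF) by group, w_z_w,
    show uS hF (0 : F) 1 * (uS hF 1 0 * wS hF * uS hF 1 1) = uS hF (0 : F) 1 * uS hF 1 0 * wS hF * uS hF 1 1 by
      group, uS_mul]
  simp

theorem five_three : five hF ^ 3 = uS hF (1 : F) 0 * wS hF * uS hF 1 0 := by
  rw [pow_succ, five_two, five, show uS hF (1 : F) 1 * wS hF * uS hF 1 1 * (uS hF 0 1 * wS hF) =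
    uS hF (1 : F) 1 * (wS hF * (uS hF 1 1 * uS hF 0 1) * wS hF) by group, uS_mul]
  simp only [add_zero, CharTwo.add_self_eq_zero, mul_zero]
  rw [w_f_w, show uS hF (1 : F) 1 * (uS hF 0 1 * wS hF * uS hF 1 0) = uS hF (1 : F) 1 * uS hF 0 1 * wS hF * uS hF 1 0 by
    group, uS_mul]
  simp [CharTwo.add_self_eq_zero]

theorem five_four : five hF ^ 4 = wS hF * uS hF (0 : F) 1 := by
  rw [pow_succ, five_three, five, show uS hF (1 : F) 0 * wS hF * uS hF 1 0 * (uS hF 0 1 * wS hF) =
    uS hF (1 : F) 0 * (wS hF * (uS hF 1 0 * uS hF 0 1) * wS hF) by group, uS_mul]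
  simp only [add_zero, zero_add, mul_zero]
  have h : wS hF * uS hF (1 : F) 1 * wS hF = uS hF 1 1 * wS hF * uS hF 0 1 := by
    refine Subtype.ext (Subtype.ext ?_)
    show wM * uM (th F m) 1 1 * wM = uM (th F m) 1 1 * wM * uM (th F m) 0 1
    have h2 : (2 : F) = 0 := CharTwo.two_eq_zero
    ext i j
    fin_cases i <;> fin_cases j <;> simp [uM, wM, fQ, Matrix.mul_apply, Fin.sum_univ_four]
    all_goals grind
  rw [h, show uS hF (1 : F) 0 * (uS hF 1 1 * wS hF * uS hF 0 1) = uS hF (1 : F) 0 * uS hF 1 1 * wS hF * uS hF 0 1 by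
    group, uS_mul]
  simp [CharTwo.add_self_eq_zero, uS_one]

theorem five_pow_five : five hF ^ 5 = (1 : Cfsg.Sz F m) := by
  rw [pow_succ, five_four, five, show wS hF * uS hF (0 : F) 1 * (uS hF 0 1 * wS hF) =
    wS hF * (uS hF (0 : F) 1 * uS hF 0 1) * wS hF by group, uS_mul]
  simp [CharTwo.add_self_eq_zero, uS_one, wS_mul_self]

/-- The matrix. -/
abbrev mat (g : Cfsg.Sz F m) : Matrix (Fin 4) (Fin 4) F :=
  ((g : Matrix.SpecialLinearGroup (Fin 4) F) : Matrix (Fin 4) (Fin 4) F)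

theorem mat_uS (a b : F) : mat (uS hF a b) = uM (th F m) a b := rfl
theorem mat_wS : mat (wS hF) = (wM : Matrix (Fin 4) (Fin 4) F) := rfl
theorem mat_tS (t : Fˣ) : mat (tS hF t) = tM (th F m) (t : F) := rfl
theorem mat_mul (g h : Cfsg.Sz F m) : mat (g * h) = mat g * mat h := rfl
theorem mat_one : mat (1 : Cfsg.Sz F m) = 1 := rfl

section Module

variable {V : Type*} [AddCommGroup V] [Module F V]

variable (ρ : Cfsg.Sz F m →* Module.End F V)

theorem rho_mul (g h : Cfsg.Sz F m) (v : V) : ρ (g * h) v = ρ g (ρ h v) := by rw [map_mul]; rfl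

theorem rho_one (v : V) : ρ 1 v = v := by rw [map_one]; rfl

theorem rho_inv (g : Cfsg.Sz F m) (v : V) : ρ g⁻¹ (ρ g v) = v := by
  rw [← rho_mul, inv_mul_cancel, rho_one]

theorem rho_injective (g : Cfsg.Sz F m) : Function.Injective (ρ g) := fun a b h => by
  rw [← rho_inv ρ g a, h, rho_inv]

/-- The norm of the element of order five vanishes. -/
def Fpf5 : Prop := ∀ v : V,
  v + ρ (five hF) v + ρ (five hF ^ 2) v + ρ (five hF ^ 3) v + ρ (five hF ^ 4) v = 0

/-- `g - 1`. -/
def D (g : Cfsg.Sz F m) : V →ₗ[F] V := ρ g + 1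

theorem D_apply (g : Cfsg.Sz F m) (v : V) : D ρ g v = ρ g v + v := rfl

theorem rho_eq (g : Cfsg.Sz F m) (v : V) : ρ g v = D ρ g v + v := by
  rw [D_apply, add_assoc, add_self (F := F), add_zero]

theorem D_one (v : V) : D ρ 1 v = 0 := by rw [D_apply, rho_one, add_self (F := F)]

theorem D_mul (g h : Cfsg.Sz F m) (v : V) : D ρ (g * h) v = D ρ g v + D ρ h v + D ρ g (D ρ h v) := by
  have h1 : D ρ g (D ρ h v) = ρ g (D ρ h v) + D ρ h v := rfl
  rw [h1, D_apply ρ h, map_add, ← rho_mul, D_apply ρ g, D_apply ρ (g * h)]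
  calc ρ (g * h) v + v = ρ (g * h) v + v + ((ρ h v + ρ h v) + (ρ g v + ρ g v) + (v + v)) := by
        simp only [add_self (F := F), add_zero]
    _ = _ := by abel

theorem D_conj {k g g' : Cfsg.Sz F m} (h : k * g = g' * k) (v : V) : ρ k (D ρ g v) = D ρ g' (ρ k v) := by
  rw [D_apply, D_apply, map_add, ← rho_mul, h, rho_mul]

variable (φ : F →+* F)

/-- Weight vectors. -/
def Eig (ω : Ex m) : Submodule F V where
  carrier := {v | ∀ t : Fˣ, ρ (tS hF t) v = φ (tp ω t) • v}
  add_mem' := fun {a b} ha hb t => by rw [map_add, ha t, hb t, smul_add]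
  zero_mem' := fun t => by rw [map_zero, smul_zero]
  smul_mem' := fun c a ha t => by rw [map_smul, ha t, smul_comm]

/-- Projection to a weight space. -/
noncomputable def pr (ω : Ex m) : V →ₗ[F] V := by
  classical
  exact ∑ t : Fˣ, φ (tp (-ω) t) • ρ (tS hF t)

theorem pr_apply (ω : Ex m) (v : V) [DecidableEq F] :
    pr hF ρ φ ω v = ∑ t : Fˣ, φ (tp (-ω) t) • ρ (tS hF t) v := by
  rw [pr, LinearMap.sum_apply]
  exact Finset.sum_congr (by ext; simp) fun _ _ => rfl

theorem pr_mem (ω : Ex m) (v : V) : pr hF ρ φ ω v ∈ Eig hF ρ φ ω := by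
  classical
  intro s
  rw [pr_apply, map_sum, Finset.smul_sum]
  refine Fintype.sum_equiv (Equiv.mulLeft s) _ _ fun t => ?_
  rw [map_smul, ← rho_mul, ← map_mul, smul_smul, Equiv.coe_mulLeft, ← map_mul, tp_mul, ← mul_assoc,
    ← tp_add hF, add_neg_cancel, tp_zero, one_mul]

include hF in
theorem sum_tp (E : Ex m) [DecidableEq F] : ∑ t : Fˣ, tp E t = if E = 0 then (1 : F) else 0 := by
  split_ifs with h
  · subst h
    simp only [tp_zero, Finset.sum_const, Finset.card_univ, Fintype.card_units, hF, nsmul_eq_mul, mul_one]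
    rw [Nat.cast_sub Nat.one_le_two_pow, Nat.cast_pow, Nat.cast_two, CharTwo.two_eq_zero, zero_pow (by omega)]
    simp [CharTwo.neg_eq]
  · obtain ⟨s, hs⟩ : ∃ s : Fˣ, tp E s ≠ 1 := by
      by_contra hall
      push Not at hall
      exact h (tp_injective hF fun t => by rw [hall, tp_zero])
    have h1 : tp E s * ∑ t : Fˣ, tp E t = ∑ t : Fˣ, tp E t := by
      rw [Finset.mul_sum]
      exact Fintype.sum_equiv (Equiv.mulLeft s) _ _ fun t => (tp_mul E s t).symm
    have h2 : (tp E s - 1) * ∑ t : Fˣ, tp E t = 0 := by rw [sub_mul, h1, one_mul, sub_self]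
    exact (mul_eq_zero.1 h2).resolve_left (sub_ne_zero.2 hs)

theorem pr_eig {ω ω' : Ex m} {v : V} (hv : v ∈ Eig hF ρ φ ω') :
    pr hF ρ φ ω v = if ω' = ω then v else 0 := by
  classical
  rw [pr_apply]
  have : ∀ t : Fˣ, φ (tp (-ω) t) • ρ (tS hF t) v = φ (tp (ω' - ω) t) • v := fun t => by
    rw [hv t, smul_smul, ← map_mul, ← tp_add hF, neg_add_eq_sub]
  rw [Finset.sum_congr rfl fun t _ => this t, ← Finset.sum_smul, ← map_sum, sum_tp hF]
  by_cases h : ω' = ω
  · simp [h]
  · simp [h, sub_eq_zero]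

theorem sum_pr (v : V) : ∑ ω : Ex m, pr hF ρ φ ω v = v := by
  classical
  have hs : ∀ t : Fˣ, ∑ ω : Ex m, tp (-ω) t = if t = 1 then (1 : F) else 0 := by
    intro t
    split_ifs with h
    · subst h
      simp only [tp, one_pow, Units.val_one, Finset.sum_const, Finset.card_univ, ZMod.card, nsmul_eq_mul, mul_one]
      rw [qq, Nat.cast_sub Nat.one_le_two_pow, Nat.cast_pow, Nat.cast_two, CharTwo.two_eq_zero, zero_pow (by omega)]
      simp [CharTwo.neg_eq]
    · have h1 : tp (m := m) 1 t * ∑ ω : Ex m, tp (-ω) t = ∑ ω : Ex m, tp (-ω) t := by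
        rw [Finset.mul_sum]
        exact Fintype.sum_equiv (Equiv.subRight 1) _ _ fun ω => by
          rw [← tp_add hF, Equiv.subRight_apply, neg_sub, sub_eq_add_neg]
      rw [tp_one hF] at h1
      have h2 : ((t : F) - 1) * ∑ ω : Ex m, tp (-ω) t = 0 := by rw [sub_mul, h1, one_mul, sub_self]
      exact (mul_eq_zero.1 h2).resolve_left (sub_ne_zero.2 fun e => h (Units.ext e))
  simp only [pr_apply]
  rw [Finset.sum_comm]
  simp only [← Finset.sum_smul, ← map_sum, hs]
  rw [Finset.sum_eq_single 1]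
  · simp [rho_one]
  · intro t _ ht; simp [ht]
  · simp

theorem pr_map (ω : Ex m) {v : V} (L : V →ₗ[F] V)
    (hL : ∀ t x, L (ρ (tS hF t) x) = ρ (tS hF t) (L x)) : pr hF ρ φ ω (L v) = L (pr hF ρ φ ω v) := by
  classical
  rw [pr_apply, pr_apply, map_sum]
  exact Finset.sum_congr rfl fun t _ => by rw [map_smul, hL]

end Module

end CfsgLib.SzModule
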