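import Cfsg.Agent.Lib.Lie.Suzuki.Fix
import Cfsg.Agent.Lib.PGroups.Suzuki.Weights

/-!
# Exponents modulo `q - 1`

Weights of modules for `Sz(q)` live in `ZMod (q - 1)`; `hh` is half of `θ`, so `2 * hh ^ 2 = 1`.
-/

set_option autoImplicit false
set_option linter.all false

namespace CfsgLib.SzModule

variable {m : ℕ}

/-- The modulus `q - 1`. -/
abbrev qq (m : ℕ) : ℕ := 2 ^ (2 * m + 1) - 1

/-- The exponents. -/
abbrev Ex (m : ℕ) := ZMod (qq m)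

instance qq_neZero : NeZero (qq m) := ⟨by
  have : 2 ≤ 2 ^ (2 * m + 1) := by
    calc 2 = 2 ^ 1 := rfl
      _ ≤ _ := Nat.pow_le_pow_right two_pos (by omega)
  unfold qq; omega⟩

/-- Half of `θ`. -/
def hh (m : ℕ) : Ex m := 2 ^ m

theorem two_pow_n : (2 : Ex m) ^ (2 * m + 1) = 1 := by
  have h1 : ((2 ^ (2 * m + 1) - 1 : ℕ) : Ex m) = 0 := ZMod.natCast_self _
  rw [Nat.cast_sub Nat.one_le_two_pow, Nat.cast_pow, Nat.cast_one, sub_eq_zero] at h1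
  exact_mod_cast h1

theorem two_hh_sq : 2 * (hh m * hh m) = 1 := by
  rw [hh, ← pow_add, ← pow_succ', show m + m + 1 = 2 * m + 1 by omega, two_pow_n]

theorem isUnit_two : IsUnit (2 : Ex m) := IsUnit.of_mul_eq_one _ two_hh_sq

theorem two_pow_mod (i : ℕ) : (2 : Ex m) ^ i = 2 ^ (i % (2 * m + 1)) := by
  conv_lhs => rw [← Nat.mod_add_div i (2 * m + 1)]
  rw [pow_add, pow_mul, two_pow_n, one_pow, mul_one]

/-- Two sums of two powers of two. -/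
theorem two_pows_eq (hm : 1 ≤ m) {a b c d : ℕ} (h : (2 : Ex m) ^ a + 2 ^ b = 2 ^ c + 2 ^ d) :
    (a % (2 * m + 1) = c % (2 * m + 1) ∧ b % (2 * m + 1) = d % (2 * m + 1)) ∨
      (a % (2 * m + 1) = d % (2 * m + 1) ∧ b % (2 * m + 1) = c % (2 * m + 1)) := by
  rw [two_pow_mod a, two_pow_mod b, two_pow_mod c, two_pow_mod d] at h
  have hlt : ∀ i, i % (2 * m + 1) < 2 * m + 1 := fun i => Nat.mod_lt _ (by omega)
  refine CfsgLib.PGroups.Suzuki.two_pows (by omega) (hlt a) (hlt b) (hlt c) (hlt d) ?_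
  rw [← ZMod.natCast_eq_natCast_iff]
  push_cast
  exact h

theorem natCast_ne_zero {k : ℕ} (h0 : k ≠ 0) (hk : k < qq m) : (k : Ex m) ≠ 0 := fun h =>
  h0 (Nat.eq_zero_of_dvd_of_lt ((ZMod.natCast_eq_zero_iff _ _).1 h) hk)

theorem one_ne_zero' (hm : 1 ≤ m) : (1 : Ex m) ≠ 0 := by
  have h8 : 8 ≤ 2 ^ (2 * m + 1) := by
    calc 8 = 2 ^ 3 := rfl
      _ ≤ _ := Nat.pow_le_pow_right two_pos (by omega)
  have := natCast_ne_zero (m := m) (k := 1) one_ne_zero (by unfold qq; omega)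
  simpa using this

theorem two_pow_ne_zero (hm : 1 ≤ m) (i : ℕ) : (2 : Ex m) ^ i ≠ 0 := fun h =>
  one_ne_zero' hm (by
    have := congrArg (· * ((isUnit_two (m := m)).unit⁻¹ : (Ex m)ˣ).val ^ i) h
    simpa [← mul_pow] using this)

theorem two_pow_add_one_ne_zero (hm : 1 ≤ m) (j : ℕ) : (2 : Ex m) ^ j + 1 ≠ 0 := by
  rw [two_pow_mod]
  have hlt : j % (2 * m + 1) ≤ 2 * m := Nat.le_of_lt_succ (Nat.mod_lt _ (by omega))
  have h4 : 4 ≤ 2 ^ (2 * m) := by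
    calc 4 = 2 ^ 2 := rfl
      _ ≤ _ := Nat.pow_le_pow_right two_pos (by omega)
  have h1 : 2 ^ (j % (2 * m + 1)) ≤ 2 ^ (2 * m) := Nat.pow_le_pow_right two_pos hlt
  have hk : 2 ^ (j % (2 * m + 1)) + 1 < qq m := by
    unfold qq
    rw [pow_succ]
    generalize hx : 2 ^ (j % (2 * m + 1)) = x at h1 ⊢
    generalize hy : 2 ^ (2 * m) = y at h1 h4 ⊢
    omega
  have := natCast_ne_zero (m := m) (k := 2 ^ (j % (2 * m + 1)) + 1) (Nat.succ_ne_zero _) hk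
  push_cast at this
  exact this

theorem two_pow_ne (hm : 1 ≤ m) {a b : ℕ} (h : a % (2 * m + 1) ≠ b % (2 * m + 1)) :
    (2 : Ex m) ^ a ≠ 2 ^ b := fun e => by
  rcases two_pows_eq hm (show (2 : Ex m) ^ a + 2 ^ a = 2 ^ b + 2 ^ b by rw [e]) with ⟨h1, -⟩ | ⟨h1, -⟩ <;>
    exact h h1

end CfsgLib.SzModule
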