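import Cfsg.Agent.Lib.SzModule.Scalars

/-!
# No homocyclic groups of exponent four

An abelian group of exponent four on which the element of order five has vanishing norm is elementary.
-/

set_option autoImplicit false
set_option linter.all false
set_option maxHeartbeats 1600000

namespace CfsgLib.SzModule

open CfsgLib.Lie.Suzuki
open scoped TensorProduct Matrix

variable {F : Type*} [Field F] [CharP F 2] [Fintype F] {m : ℕ}
  (hF : Fintype.card F = 2 ^ (2 * m + 1))

include hF in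
/-- The squaring map on the field is onto. -/
theorem exists_sq (x : F) : ∃ u : F, x = u * u :=
  (isSquare_iff_exists_mul_self _).1 (FiniteField.isSquare_of_char_two (ringChar.eq F 2) x)

section Elementary

variable {A : Type*} [AddCommGroup A] (act : Cfsg.Sz F m →* AddMonoid.End A)
  (e : ∀ a : A, a + a = 0)

include e in
/-- Fixed points of a central involution are differences. -/
theorem exists_diff (h5 : Norm5 hF act) {b : F} (hb : b ≠ 0) {v : A} (hv : act (uS hF 0 b) v = v) :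
    ∃ n : A, act (uS hF 0 b) n + n = v := by
  obtain ⟨k, hk⟩ : ∃ k, k = kB hF (m := m) (Units.mk0 b hb) := ⟨_, rfl⟩
  have hkz : uS hF 0 b = k * uS hF 0 1 * k⁻¹ := by
    rw [hk, kB_conj, Units.val_mk0, mul_one, mul_inv_cancel_right]
  have hconj : k * uS hF 0 1 = uS hF 0 b * k := by rw [hkz, inv_mul_cancel_right]
  have hv1 : act (uS hF 0 1) (act k⁻¹ v) = act k⁻¹ v := by
    rw [← act_mul, show uS hF 0 1 * k⁻¹ = k⁻¹ * uS hF 0 b by rw [hkz]; group, act_mul, hv]
  obtain ⟨z, hz⟩ : ∃ z, z = uS hF (0 : F) 1 := ⟨_, rfl⟩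
  rw [← hz] at hv1 hconj
  obtain ⟨v1, hv1'⟩ : ∃ v1, v1 = act k⁻¹ v := ⟨_, rfl⟩
  rw [← hv1'] at hv1
  have hzz : z * z = 1 := by rw [hz, uS_mul]; simp [CharTwo.add_self_eq_zero, uS_one]
  have h1 : z * five hF = five hF ^ 4 * z := by
    rw [five_four, five, ← hz, mul_assoc (wS hF), hzz, mul_one, ← mul_assoc, hzz, one_mul]
  have h2 : z * five hF ^ 2 = five hF ^ 3 * z := by
    rw [pow_two, ← mul_assoc, h1, mul_assoc, h1, ← mul_assoc, ← pow_add,
      show 4 + 4 = 5 + 3 by norm_num, pow_add, five_pow_five, one_mul]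
  refine ⟨act k (act (five hF) v1 + act (five hF ^ 2) v1), ?_⟩
  rw [← act_mul, ← hconj, act_mul, ← map_add, map_add (act z), ← act_mul, ← act_mul act z, h1, h2, act_mul,
    act_mul, hv1]
  have h3 : act (five hF ^ 4) v1 + act (five hF ^ 3) v1 + (act (five hF) v1 + act (five hF ^ 2) v1) = v1 := by
    calc _ = (v1 + act (five hF) v1 + act (five hF ^ 2) v1 + act (five hF ^ 3) v1 + act (five hF ^ 4) v1) + v1 := by
          rw [show v1 + act (five hF) v1 + act (five hF ^ 2) v1 + act (five hF ^ 3) v1 + act (five hF ^ 4) v1 + v1 =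
            act (five hF ^ 4) v1 + act (five hF ^ 3) v1 + (act (five hF) v1 + act (five hF ^ 2) v1) + (v1 + v1) by
              abel, e, add_zero]
      _ = v1 := by rw [h5, zero_add]
  rw [h3, hv1', ← act_mul, mul_inv_cancel, act_one]

include hF e in
/-- The centre of the unipotent group acts with square zero. -/
theorem centre_sq_zero [Finite A] (hm : 1 ≤ m) (h5 : Norm5 hF act) (b c : F) (v : A) :
    act (uS hF 0 b) (act (uS hF 0 c) v + v) = act (uS hF 0 c) v + v := by
  letI := ZMod.algebra F 2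
  letI : Module (ZMod 2) A := AddCommGroup.zmodModule fun a => by rw [two_nsmul]; exact e a
  haveI : Finite (F ⊗[ZMod 2] A) := finite_scal
  obtain ⟨w, hw⟩ : ∃ w : F ⊗[ZMod 2] A, w = D (scal act) (uS hF 0 b) (D (scal act) (uS hF 0 c) (1 ⊗ₜ[ZMod 2] v)) :=
    ⟨_, rfl⟩
  have hw0 : w = 0 := natProj_sep hF hm (h5.scal hF) w fun φ π hπ => by
    rw [hw, hπ.D_uS hF, hπ.D_uS hF]
    funext k
    fin_cases k <;> simp [uD]
  rw [hw0, D_apply, D_apply, scal_tmul, ← TensorProduct.tmul_add, scal_tmul, ← TensorProduct.tmul_add] at hw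
  have h1 := eq_zero_of_tmul (F := F) hw.symm
  calc act (uS hF 0 b) (act (uS hF 0 c) v + v)
      = (act (uS hF 0 b) (act (uS hF 0 c) v + v) + (act (uS hF 0 c) v + v)) + (act (uS hF 0 c) v + v) := by
        rw [add_assoc, e, add_zero]
    _ = _ := by rw [h1, zero_add]

end Elementary

include hF in
/-- Exponent four implies exponent two. -/
theorem exponent_two {A : Type*} [AddCommGroup A] [Finite A] (hm : 1 ≤ m)
    (act : Cfsg.Sz F m →* AddMonoid.End A) (h5 : Norm5 hF act) (h4 : ∀ a : A, a + a + (a + a) = 0) :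
    ∀ a : A, a + a = 0 := by
  classical
  haveI : Fact (Nat.Prime 2) := ⟨Nat.prime_two⟩
  letI := ZMod.algebra F 2
  obtain ⟨d, hd⟩ : ∃ d : F → A →+ A, ∀ b a, d b a = act (uS hF 0 b) a - a :=
    ⟨fun b => AddMonoidHom.mk' (fun a => act (uS hF 0 b) a - a) fun x y => by rw [map_add]; abel, fun _ _ => rfl⟩
  have hzz : ∀ b c : F, uS hF 0 b * uS hF 0 c = uS hF 0 (b + c) := fun b c => by rw [uS_mul]; simp
  have hdcomm : ∀ b c a, d b (d c a) = d c (d b a) := fun b c a => by
    simp only [hd, map_sub, ← act_mul, hzz, add_comm c b]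
    abel
  have hdadd : ∀ b c a, d (b + c) a = d b a + d c a + d b (d c a) := fun b c a => by
    simp only [hd, map_sub, ← act_mul, hzz]
    abel
  have hd0 : ∀ a, d 0 a = 0 := fun a => by rw [hd, uS_one, act_one, sub_self]
  have hdsq : ∀ b a, d b (d b a) = -(d b a + d b a) := fun b a => by
    simp only [hd, map_sub, ← act_mul, hzz, CharTwo.add_self_eq_zero, uS_one, act_one]
    abel
  -- the two sections
  let Ω : AddSubgroup A :=
    { carrier := {a | a + a = 0}
      zero_mem' := add_zero 0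
      add_mem' := fun {a b} ha hb => by
        show a + b + (a + b) = 0
        rw [add_add_add_comm, ha, hb, add_zero]
      neg_mem' := fun {a} ha => by
        show -a + -a = 0
        rw [← neg_add, ha, neg_zero] }
  have hΩ : ∀ g, ∀ a ∈ Ω, act g a ∈ Ω := fun g a ha => by
    show act g a + act g a = 0
    rw [← map_add, show a + a = 0 from ha, map_zero]
  let M : AddSubgroup A :=
    { carrier := {a | ∃ n, n + n = a}
      zero_mem' := ⟨0, add_zero 0⟩
      add_mem' := by
        rintro _ _ ⟨u, rfl⟩ ⟨v, rfl⟩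
        exact ⟨u + v, add_add_add_comm u v u v⟩
      neg_mem' := by
        rintro _ ⟨u, rfl⟩
        exact ⟨-u, (neg_add u u).symm⟩ }
  have hM : ∀ g, ∀ a ∈ M, act g a ∈ M := fun g a ha => by
    obtain ⟨n, rfl⟩ := ha
    exact ⟨act g n, (map_add (act g) n n).symm⟩
  have eΩ : ∀ a : ↥Ω, a + a = 0 := fun a => Subtype.ext a.2
  have hMΩ : M ≤ Ω := by
    rintro _ ⟨n, rfl⟩
    exact h4 n
  have eM : ∀ a : ↥M, a + a = 0 := fun a => Subtype.ext (hMΩ a.2)
  letI : Module (ZMod 2) ↥Ω := AddCommGroup.zmodModule fun a => by rw [two_nsmul]; exact eΩ a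
  letI : Module (ZMod 2) ↥M := AddCommGroup.zmodModule fun a => by rw [two_nsmul]; exact eM a
  haveI : Finite (F ⊗[ZMod 2] ↥Ω) := finite_scal
  haveI : Finite (F ⊗[ZMod 2] ↥M) := finite_scal
  have h5Ω : Norm5 hF (restr act Ω hΩ) := h5.restr hF Ω hΩ
  have h5M : Norm5 hF (restr act M hM) := h5.restr hF M hM
  have hΩd : ∀ b, ∀ a ∈ Ω, d b a = act (uS hF 0 b) a + a ∧ d b a ∈ Ω := fun b a ha => by
    refine ⟨?_, by rw [hd]; exact sub_mem (hΩ _ a ha) ha⟩
    rw [hd, sub_eq_add_neg, neg_eq_of_add_eq_zero_right (show a + a = 0 from ha)]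
  have hdd : ∀ b c, ∀ a ∈ Ω, d b (d c a) = 0 := fun b c a ha => by
    rw [(hΩd c a ha).1, hd]
    rw [sub_eq_zero]
    exact congrArg (fun x : ↥Ω => (x : A)) (centre_sq_zero hF (restr act Ω hΩ) eΩ hm h5Ω b c ⟨a, ha⟩)
  -- the lemma on lifts
  have hlift : ∀ a b w, d b (w + w) = 0 → d a (d b w) = 0 := by
    intro a b w hw
    rcases eq_or_ne b 0 with rfl | hb
    · rw [hd0, map_zero]
    obtain ⟨⟨_, n, rfl⟩, hn⟩ := exists_diff hF (restr act M hM) eM h5M hb (v := ⟨w + w, w, rfl⟩)
      (Subtype.ext (show act (uS hF 0 b) (w + w) = w + w from sub_eq_zero.1 (by rw [← hd]; exact hw)))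
    have hn' : d b (n + n) = w + w := by
      rw [(hΩd b _ (hMΩ ⟨n, rfl⟩)).1]
      exact congrArg (fun x : ↥M => (x : A)) hn
    have hω : w - d b n ∈ Ω := by
      show w - d b n + (w - d b n) = 0
      rw [map_add] at hn'
      rw [show w - d b n + (w - d b n) = w + w - (d b n + d b n) by abel, hn', sub_self]
    calc d a (d b w) = d a (d b (d b n)) + d a (d b (w - d b n)) := by
          rw [← map_add, ← map_add, add_sub_cancel]
      _ = 0 := by
          rw [hdd _ _ _ hω, hdsq, map_neg, map_add, add_zero, ← map_add, ← map_add,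
            hdd _ _ _ (hMΩ ⟨n, rfl⟩), neg_zero]
  have hT : ∀ a b c n, d a (d b (d c n)) = 0 := fun a b c n => hlift a b _ (by
    simp only [← map_add]; exact hdd b c _ (hMΩ ⟨n, rfl⟩))
  -- the halving
  choose half hhalf using fun v : ↥M => (v.2 : (v : A) ∈ M)
  have hhalf' : ∀ v : ↥M, half v + half v = (v : A) := hhalf
  have hΦmem : ∀ b c n, d b (d c n) ∈ Ω := fun b c n => by
    show d b (d c n) + d b (d c n) = 0
    rw [← map_add, ← map_add]; exact hdd b c _ (hMΩ ⟨n, rfl⟩)
  have hindep : ∀ b c n n', n + n = n' + n' → d b (d c n) = d b (d c n') := fun b c n n' h => by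
    rw [← sub_eq_zero, ← map_sub, ← map_sub]
    refine hdd b c _ ?_
    show n - n' + (n - n') = 0
    rw [show n - n' + (n - n') = n + n - (n' + n') by abel, h, sub_self]
  obtain ⟨Φ, hΦ⟩ : ∃ Φ : F → F → (↥M →ₗ[ZMod 2] ↥Ω), ∀ b c v, (Φ b c v : A) = d b (d c (half v)) := by
    refine ⟨fun b c => AddMonoidHom.toZModLinearMap 2
      (AddMonoidHom.mk' (fun v => (⟨d b (d c (half v)), hΦmem b c _⟩ : ↥Ω)) fun u v => Subtype.ext ?_), fun b c v => rfl⟩
    show d b (d c (half (u + v))) = d b (d c (half u)) + d b (d c (half v))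
    rw [← map_add, ← map_add]
    refine hindep b c _ _ ?_
    rw [hhalf', add_add_add_comm, hhalf', hhalf']; rfl
  have hΦl : ∀ b b' c, Φ (b + b') c = Φ b c + Φ b' c := fun b b' c => LinearMap.ext fun v => Subtype.ext (by
    rw [LinearMap.add_apply, AddSubgroup.coe_add, hΦ, hΦ, hΦ, hdadd, hT, add_zero])
  have hΦr : ∀ b c c', Φ b (c + c') = Φ b c + Φ b c' := fun b c c' => LinearMap.ext fun v => Subtype.ext (by
    rw [LinearMap.add_apply, AddSubgroup.coe_add, hΦ, hΦ, hΦ, hdadd, map_add, map_add, hT, add_zero])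
  -- suppose the doubling is not zero
  by_contra hne
  push Not at hne
  obtain ⟨n0, hn0⟩ := hne
  let incl : ↥M →ₗ[ZMod 2] ↥Ω := AddMonoidHom.toZModLinearMap 2 (AddSubgroup.inclusion hMΩ)
  let J := LinearMap.baseChange F incl
  obtain ⟨φ, ι, π, hι, hπ, x0, hx0⟩ : ∃ (φ : F →+* F) (ι : (Fin 4 → F) →+ F ⊗[ZMod 2] ↥M)
      (π : F ⊗[ZMod 2] ↥Ω →+ (Fin 4 → F)), NatEmb (scal (restr act M hM)) φ ι ∧
        (∃ φ', NatProj (scal (restr act Ω hΩ)) φ' π) ∧ ∃ x, π (J (ι x)) ≠ 0 := by
    by_contra hnone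
    push Not at hnone
    have hJ : LinearMap.ker J = ⊤ := by
      refine natEmb_span hF hm _ _ le_rfl (h5M.scal hF) _ fun φ ι hι x => ?_
      rw [LinearMap.mem_ker]
      exact natProj_sep hF hm (h5Ω.scal hF) _ fun φ' π hπ => hnone φ ι π hι ⟨φ', hπ⟩ x
    have h1 : (1 : F) ⊗ₜ[ZMod 2] (⟨n0 + n0, n0, rfl⟩ : ↥M) ∈ LinearMap.ker J := hJ ▸ Submodule.mem_top
    have h2 := eq_zero_of_tmul (F := F) (LinearMap.mem_ker.1 h1)
    exact hn0 (congrArg (fun x : ↥Ω => (x : A)) h2)
  obtain ⟨φ', hπ⟩ := hπ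
  -- the composite is a scalar
  have hJg : ∀ g v, J (scal (restr act M hM) g v) = scal (restr act Ω hΩ) g (J v) := fun g v => by
    induction v using TensorProduct.induction_on with
    | zero => simp
    | add x y hx hy => simp only [map_add, hx, hy]
    | tmul c a => rfl
  obtain ⟨G, hG⟩ : ∃ G : (Fin 4 → F) →+ (Fin 4 → F), ∀ x, G x = π (J (ι x)) :=
    ⟨π.comp (J.toAddMonoidHom.comp ι), fun _ => rfl⟩
  have hGg : ∀ g x, G (mat g *ᵥ x) = mat g *ᵥ G x := fun g x => by
    rw [hG, hG, ← hι.equiv, hJg, hπ.equiv]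
  have hGs : ∀ c x, ∃ c', φ' c' = φ c ∧ G (c • x) = c' • G x := fun c x => by
    obtain ⟨c', hc'⟩ := (hom_bij φ').2 (φ c)
    exact ⟨c', hc', by rw [hG, hG, hι.smul, map_smul, ← hc', hπ.smul]⟩
  obtain ⟨e0, he0⟩ : ∃ e : Fin 4 → F, e = ![1, 0, 0, 0] := ⟨_, rfl⟩
  obtain ⟨e1, he1⟩ : ∃ e : Fin 4 → F, e = ![0, 1, 0, 0] := ⟨_, rfl⟩
  obtain ⟨e3, he3⟩ : ∃ e : Fin 4 → F, e = ![0, 0, 0, 1] := ⟨_, rfl⟩
  have hu0 : ∀ a b, mat (uS hF a b) *ᵥ e0 = e0 := fun a b => by
    rw [mat_uS, he0]; funext k; fin_cases k <;> simp [uM, Matrix.mulVec, dotProduct, Fin.sum_univ_four]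
  have hK0 : G e0 ≠ 0 := fun h0 => by
    let P : Submodule F (Fin 4 → F) :=
      { carrier := {x | G x = 0}
        zero_mem' := map_zero G
        add_mem' := fun {a b} ha hb => by show G (a + b) = 0; rw [map_add, ha, hb, add_zero]
        smul_mem' := fun c x hx => by
          obtain ⟨c', -, h⟩ := hGs c x
          show G (c • x) = 0
          rw [h, hx, smul_zero] }
    have hP := nat_irred hF P (fun g x hx => by show G _ = 0; rw [hGg, show G x = 0 from hx, Matrix.mulVec_zero])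
      (fun hb => by
        have h' : e0 ∈ P := h0
        rw [hb, Submodule.mem_bot, he0] at h'
        simpa using congrFun h' 0)
    exact hx0 (by rw [← hG]; exact (hP ▸ Submodule.mem_top : x0 ∈ P))
  have hKfix : ∀ a b, uD m a b (G e0) = 0 := fun a b => by
    rw [← mat_D hF, ← hGg, hu0]
    funext k; exact CharTwo.add_self_eq_zero _
  have hK3 : G e0 3 = 0 := by simpa [uD] using congrFun (hKfix 1 0) 2
  have hK2 : G e0 2 = 0 := by simpa [uD, hK3] using congrFun (hKfix 1 0) 1
  have hK1 : G e0 1 = 0 := by simpa [uD, hK3, hK2] using congrFun (hKfix 1 0) 0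
  obtain ⟨k, hk⟩ : ∃ k, k = G e0 0 := ⟨_, rfl⟩
  have hk0 : k ≠ 0 := fun h => hK0 (by funext i; fin_cases i <;> simp [← hk, h, hK1, hK2, hK3])
  have htor0 : ∀ t : Fˣ, mat (tS hF t) *ᵥ e0 = (t : F) • e0 := fun t => by
    rw [mat_tor]; funext i; fin_cases i <;> simp [he0, wt, tp_one hF]
  obtain rfl : φ = φ' := RingHom.ext fun c => by
    rcases eq_or_ne c 0 with rfl | hc
    · rw [map_zero, map_zero]
    obtain ⟨c', h1, h2⟩ := hGs c e0
    have h3 := hGg (tS hF (Units.mk0 c hc)) e0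
    rw [htor0, Units.val_mk0, h2, mat_tor] at h3
    have h4 := congrFun h3 0
    simp [wt, tp_one hF, ← hk, hk0] at h4
    subst h4
    exact h1.symm
  have hGlin : ∀ c x, G (c • x) = c • G x := fun c x => by
    obtain ⟨c', h1, h2⟩ := hGs c x
    rwa [φ.injective h1] at h2
  have hG10 : G e1 0 = 0 := by
    by_contra hne1
    have hw : wt m 1 = wt m 0 := by
      refine tp_injective hF fun t => ?_
      have h3 := congrFun (hGg (tS hF t) e1) 0
      rw [mat_tor, mat_tor, show (fun i => tp (wt m i) t * e1 i) = tp (wt m 1) t • e1 by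
        funext i; fin_cases i <;> simp [he1], hGlin, Pi.smul_apply, smul_eq_mul] at h3
      exact mul_right_cancel₀ hne1 h3
    exact absurd (wt_injective hm hw) (by decide)
  -- the bilinear form
  obtain ⟨Φf, hΦf⟩ : ∃ Φf : F → F → (F ⊗[ZMod 2] ↥M →ₗ[F] F ⊗[ZMod 2] ↥Ω),
      ∀ b c, Φf b c = LinearMap.baseChange F (Φ b c) := ⟨_, fun _ _ => rfl⟩
  obtain ⟨α, hα⟩ : ∃ α : F → F → F, ∀ b c, α b c = π (Φf b c (ι e3)) 0 := ⟨_, fun _ _ => rfl⟩
  have hαl : ∀ b b' c, α (b + b') c = α b c + α b' c := fun b b' c => by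
    rw [hα, hα, hα, hΦf, hΦl, LinearMap.baseChange_add, LinearMap.add_apply, map_add, Pi.add_apply, ← hΦf, ← hΦf]
  have hαr : ∀ b c c', α b (c + c') = α b c + α b c' := fun b c c' => by
    rw [hα, hα, hα, hΦf, hΦr, LinearMap.baseChange_add, LinearMap.add_apply, map_add, Pi.add_apply, ← hΦf, ← hΦf]
  have hαs : ∀ (s : Fˣ) (b c : F), α (s * b) (s * c) = th F m (s : F) * α b c := by
    intro s b c
    obtain ⟨T, hTdef⟩ : ∃ T, T = kB hF (m := m) s := ⟨_, rfl⟩
    have hTd : ∀ b a, act T (d b a) = d ((s : F) * b) (act T a) := fun b a => by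
      rw [hd, hd, map_sub, ← act_mul, hTdef, kB_conj, act_mul]
    have hTΦ : ∀ v, scal (restr act Ω hΩ) T (Φf b c v) = Φf (s * b) (s * c) (scal (restr act M hM) T v) := by
      intro v
      induction v using TensorProduct.induction_on with
      | zero => simp
      | add x y hx hy => simp only [map_add, hx, hy]
      | tmul r a =>
        rw [hΦf, hΦf, LinearMap.baseChange_tmul, scal_tmul, scal_tmul, LinearMap.baseChange_tmul]
        congr 1
        refine Subtype.ext ?_
        rw [restr_coe, hΦ, hΦ, hTd, hTd]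
        refine hindep _ _ _ _ ?_
        rw [hhalf', restr_coe, ← map_add, hhalf']
    have h1 := congrArg (fun x => π x 0) (hTΦ (ι e3))
    simp only [hι.equiv, hπ.equiv] at h1
    rw [hTdef, kB, mat_tor, mat_tor,
      show (fun i => tp (wt m i) (sub_pow (hh m) s) * e3 i) = tp (hh m * -1) s • e3 by
        funext i; fin_cases i <;> simp [he3, wt, tp_sub_pow hF],
      hι.smul, map_smul, hπ.smul, Pi.smul_apply, smul_eq_mul] at h1
    simp only [tp_sub_pow hF, ← hα] at h1
    rw [show wt m 0 = 1 from rfl, mul_one] at h1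
    rw [th_tp hF, show 2 * hh m = hh m - hh m * -1 by ring, tp_sub hF, div_mul_eq_mul_div, h1,
      mul_div_cancel_left₀ _ (tp_ne_zero _ _)]
  have hα1 : α 1 1 = k := by
    have h1 : ∀ v, Φf 1 1 v = J (D (scal (restr act M hM)) (uS hF 0 1) v) := fun v => by
      induction v using TensorProduct.induction_on with
      | zero => simp
      | add x y hx hy => simp only [map_add, hx, hy]
      | tmul r a =>
        rw [hΦf, LinearMap.baseChange_tmul, D_apply, scal_tmul, ← TensorProduct.tmul_add]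
        refine congrArg (r ⊗ₜ[ZMod 2] ·) (Subtype.ext ?_)
        rw [hΦ, hdsq, ← map_add, hhalf']
        show -(d 1 (a : A)) = act (uS hF 0 1) (a : A) + (a : A)
        rw [neg_eq_of_add_eq_zero_right (show d 1 (a : A) + d 1 (a : A) = 0 from (hΩd 1 _ (hMΩ a.2)).2),
          (hΩd 1 _ (hMΩ a.2)).1]
    rw [hα, h1, D_apply, hι.equiv, ← map_add, mat_D hF, ← hG,
      show uD m 0 1 e3 = e0 + e1 by funext i; fin_cases i <;> simp [uD, fQ, he0, he1, he3],
      map_add, Pi.add_apply, ← hk, hG10, add_zero]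
  have hαdiv : ∀ b c : F, c ≠ 0 → α b c = th F m c * α (b / c) 1 := fun b c hc => by
    rw [← Units.val_mk0 hc, ← hαs, Units.val_mk0, mul_one, mul_div_cancel₀ _ hc]
  have h2F : (2 : F) = 0 := CharTwo.two_eq_zero
  have hfsq : ∀ c : F, α (c * c) 1 = th F m c * k := by
    intro c
    rcases eq_or_ne c 0 with rfl | hc
    · have := hαl 0 0 1
      rw [add_zero] at this
      rw [mul_zero, map_zero, zero_mul]
      linear_combination -this
    rcases eq_or_ne c 1 with rfl | hc1
    · rw [mul_one, map_one, one_mul, hα1]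
    have hc' : c + 1 ≠ 0 := fun h => hc1 (CharTwo.add_eq_zero.1 h)
    have h1 := hαr (c * (c + 1)) c 1
    rw [hαdiv _ _ hc', hαdiv _ _ hc, mul_div_cancel_left₀ _ hc, mul_div_cancel_right₀ _ hc', mul_add, mul_one,
      hαl, hαl, hα1, map_add, map_one] at h1
    linear_combination h1 + (α (c * c) 1) * h2F
  have hαval : ∀ b c : F, α b c = k * c ^ 2 ^ m * b ^ 2 ^ m := by
    intro b c
    rcases eq_or_ne c 0 with rfl | hc
    · have := hαr b 0 0
      rw [add_zero] at this
      rw [zero_pow (pow_ne_zero m two_ne_zero), mul_zero, zero_mul]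
      linear_combination -this
    obtain ⟨u, hu⟩ := exists_sq hF (b / c)
    have hb : c * b = (c * u) ^ 2 := by
      rw [div_eq_iff hc] at hu
      rw [hu]; ring
    rw [hαdiv b c hc, hu, hfsq, ← mul_assoc, ← map_mul, th_apply, mul_assoc, ← mul_pow, hb, ← pow_mul,
      ← pow_succ', mul_comm]
  -- the functional
  obtain ⟨L, hL1, hL2, hL3⟩ : ∃ L : (F → F) →ₗ[F] F, L (fun b => φ (b ^ 2 ^ m)) = 1 ∧
      L (fun b => φ (th F m b)) = 0 ∧ L (fun b => φ b) = 0 := by
    let S : Submodule F (F → F) := Submodule.span F {(fun b => φ (th F m b)), (fun b => φ b)}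
    have hmem : (fun b => φ (b ^ 2 ^ m)) ∉ S := fun h => by
      obtain ⟨a, a', h⟩ := Submodule.mem_span_pair.1 h
      obtain ⟨a, rfl⟩ := (hom_bij φ).2 a
      obtain ⟨a', rfl⟩ := (hom_bij φ).2 a'
      have hinj : Function.Injective (![2 * hh m, 1, hh m] : Fin 3 → Ex m) := by
        have q1 : (2 : Ex m) ^ (m + 1) ≠ 2 ^ 0 := two_pow_ne hm (by
          rw [Nat.mod_eq_of_lt (by omega), Nat.zero_mod]; omega)
        have q2 : (2 : Ex m) ^ (m + 1) ≠ 2 ^ m := two_pow_ne hm (by
          rw [Nat.mod_eq_of_lt (by omega), Nat.mod_eq_of_lt (by omega)]; omega)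
        have q3 : (2 : Ex m) ^ m ≠ 2 ^ 0 := two_pow_ne hm (by
          rw [Nat.mod_eq_of_lt (by omega), Nat.zero_mod]; omega)
        rw [pow_succ', ← hh, pow_zero] at q1
        rw [pow_succ', ← hh] at q2
        rw [← hh, pow_zero] at q3
        intro i i' hii
        fin_cases i <;> fin_cases i' <;> simp at hii <;> first
          | rfl | exact absurd hii q1 | exact absurd hii.symm q1 | exact absurd hii q2
          | exact absurd hii.symm q2 | exact absurd hii q3 | exact absurd hii.symm q3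
      have h3 := coef_eq_zero hF _ hinj ![a, a', -1] (fun t => by
        have h4 := congrFun h (t : F)
        simp only [Pi.add_apply, Pi.smul_apply, smul_eq_mul, ← map_mul, ← map_add] at h4
        have h5' := φ.injective h4
        rw [th_tp hF, ← tp_two_pow hF, ← hh] at h5'
        simp [Fin.sum_univ_three, tp_one hF]
        linear_combination h5') 2
      simp at h3
    obtain ⟨l, hl⟩ := Module.Projective.exists_dual_ne_zero F
      (show S.mkQ (fun b => φ (b ^ 2 ^ m)) ≠ 0 from fun h => hmem ((Submodule.Quotient.mk_eq_zero S).1 h))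
    refine ⟨(l (S.mkQ fun b => φ (b ^ 2 ^ m)))⁻¹ • l.comp S.mkQ, inv_mul_cancel₀ hl, ?_, ?_⟩
    · rw [LinearMap.smul_apply, LinearMap.comp_apply, show S.mkQ (fun b => φ (th F m b)) = 0 from
        (Submodule.Quotient.mk_eq_zero S).2 (Submodule.subset_span (Set.mem_insert _ _)), map_zero, smul_zero]
    · rw [LinearMap.smul_apply, LinearMap.comp_apply, show S.mkQ (fun b => φ b) = 0 from
        (Submodule.Quotient.mk_eq_zero S).2 (Submodule.subset_span (Set.mem_insert_of_mem _ rfl)), map_zero, smul_zero]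
  let χ : F ⊗[ZMod 2] ↥Ω →ₗ[F] F :=
    { toFun := fun z => φ (π z 0)
      map_add' := fun x y => by rw [map_add, Pi.add_apply, map_add]
      map_smul' := fun c x => by
        obtain ⟨c, rfl⟩ := (hom_bij φ).2 c
        rw [hπ.smul, Pi.smul_apply, smul_eq_mul, map_mul]; rfl }
  have hχ : ∀ z, χ z = φ (π z 0) := fun z => rfl
  have hdhalf : ∀ (b : F) (w : ↥M), (∀ c, d c (w : A) = 0) → d b (half w) ∈ Ω := fun b w hw => by
    show d b (half w) + d b (half w) = 0
    rw [← map_add, hhalf']; exact hw b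
  have hkill : ∀ (ω : ↥Ω) (f : F → ↥Ω), (∀ b, (f b : A) = d b (ω : A)) →
      L (fun b => χ ((1 : F) ⊗ₜ[ZMod 2] f b)) = 0 := by
    intro ω f hf
    have h1 : (fun b => χ ((1 : F) ⊗ₜ[ZMod 2] f b)) = φ (π ((1 : F) ⊗ₜ[ZMod 2] ω) 2) • (fun b => φ b) +
        φ (π ((1 : F) ⊗ₜ[ZMod 2] ω) 3) • (fun b => φ (th F m b)) := by
      funext b
      have h2 : ((1 : F) ⊗ₜ[ZMod 2] f b) = D (scal (restr act Ω hΩ)) (uS hF 0 b) ((1 : F) ⊗ₜ[ZMod 2] ω) := by
        rw [D_apply, scal_tmul, ← TensorProduct.tmul_add]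
        refine congrArg _ (Subtype.ext ?_)
        rw [hf, (hΩd b _ ω.2).1]; rfl
      rw [hχ, h2, hπ.D_uS hF, Pi.add_apply, Pi.smul_apply, Pi.smul_apply, smul_eq_mul, smul_eq_mul, ← map_mul,
        ← map_mul, ← map_add]
      congr 1
      simp [uD, fQ]
      ring
    rw [h1, map_add, map_smul, map_smul, hL2, hL3, smul_zero, smul_zero, add_zero]
  let W : Submodule (ZMod 2) ↥M := AddSubgroup.toZModSubmodule 2
    { carrier := {w : ↥M | ∀ c, d c (w : A) = 0}
      zero_mem' := fun c => map_zero (d c)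
      add_mem' := fun {u v} hu hv c => by
        show d c ((u : A) + (v : A)) = 0
        rw [map_add, hu c, hv c, add_zero]
      neg_mem' := fun {u} hu c => by
        show d c (-(u : A)) = 0
        rw [map_neg, hu c, neg_zero] }
  obtain ⟨Q0, hQ0⟩ : ∃ Q0 : ↥W →ₗ[ZMod 2] F, ∀ w : ↥W,
      Q0 w = L (fun b => χ ((1 : F) ⊗ₜ[ZMod 2] (⟨d b (half w.1), hdhalf b w.1 w.2⟩ : ↥Ω))) := by
    refine ⟨AddMonoidHom.toZModLinearMap 2 (AddMonoidHom.mk' _ fun u v => ?_), fun w => rfl⟩
    show L _ = L _ + L _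
    rw [← sub_eq_zero, ← map_add, ← map_sub]
    refine Eq.trans (congrArg L ?_) (hkill ⟨half (u + v).1 - (half u.1 + half v.1), ?_⟩
      (fun b => (⟨d b (half (u + v).1), hdhalf b _ (u + v).2⟩ : ↥Ω) -
        ((⟨d b (half u.1), hdhalf b _ u.2⟩ : ↥Ω) + ⟨d b (half v.1), hdhalf b _ v.2⟩))
      fun b => ?_)
    · funext b
      rw [Pi.sub_apply, Pi.add_apply, ← map_add, ← map_sub, ← TensorProduct.tmul_add, ← TensorProduct.tmul_sub]
    · show half (u + v).1 - (half u.1 + half v.1) + (half (u + v).1 - (half u.1 + half v.1)) = 0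
      rw [show half (u + v).1 - (half u.1 + half v.1) + (half (u + v).1 - (half u.1 + half v.1)) =
        half (u + v).1 + half (u + v).1 - ((half u.1 + half u.1) + (half v.1 + half v.1)) by abel,
        hhalf', hhalf', hhalf']
      exact sub_self _
    · show d b (half (u + v).1) - (d b (half u.1) + d b (half v.1)) = _
      rw [map_sub, map_add]
  obtain ⟨Q1, hQ1⟩ := LinearMap.exists_extend Q0
  let Q : F ⊗[ZMod 2] ↥M →ₗ[F] F := LinearMap.liftBaseChange F Q1
  have hkey : ∀ (c : F) (X : F ⊗[ZMod 2] ↥M),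
      L (fun b => χ (Φf b c X)) = Q (D (scal (restr act M hM)) (uS hF 0 c) X) := by
    intro c X
    induction X using TensorProduct.induction_on with
    | zero => simp only [map_zero]; exact map_zero L
    | add x y hx hy =>
      simp only [map_add]
      rw [← hx, ← hy, ← map_add]
      rfl
    | tmul r v =>
      have hW : restr act M hM (uS hF 0 c) v + v ∈ W := fun c' => by
        show d c' (act (uS hF 0 c) (v : A) + (v : A)) = 0
        rw [← (hΩd c _ (hMΩ v.2)).1]
        exact hdd _ _ _ (hMΩ v.2)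
      rw [D_apply, scal_tmul, ← TensorProduct.tmul_add]
      show _ = LinearMap.liftBaseChange F Q1 _
      rw [LinearMap.liftBaseChange_tmul, show Q1 (restr act M hM (uS hF 0 c) v + v) = Q0 ⟨_, hW⟩ from DFunLike.congr_fun hQ1 ⟨_, hW⟩, hQ0,
        smul_eq_mul]
      have h1 : (fun b => χ (Φf b c (r ⊗ₜ[ZMod 2] v))) = r • fun b => χ ((1 : F) ⊗ₜ[ZMod 2] Φ b c v) := by
        funext b
        rw [hΦf, LinearMap.baseChange_tmul, Pi.smul_apply, ← map_smul, TensorProduct.smul_tmul', smul_eq_mul, mul_one]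
      rw [h1, map_smul, smul_eq_mul]
      congr 1
      rw [← sub_eq_zero, ← map_sub]
      refine Eq.trans (congrArg L ?_) (hkill ⟨d c (half v) - half (restr act M hM (uS hF 0 c) v + v), ?_⟩
        (fun b => Φ b c v - ⟨d b (half (restr act M hM (uS hF 0 c) v + v)), hdhalf b _ hW⟩) fun b => ?_)
      · funext b
        rw [Pi.sub_apply, ← map_sub, ← TensorProduct.tmul_sub]
      · show _ + _ = (0 : A)
        rw [show d c (half v) - half (restr act M hM (uS hF 0 c) v + v) +
          (d c (half v) - half (restr act M hM (uS hF 0 c) v + v)) = (d c (half v) + d c (half v)) -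
            (half (restr act M hM (uS hF 0 c) v + v) + half (restr act M hM (uS hF 0 c) v + v)) by abel,
          ← map_add, hhalf', hhalf', (hΩd c _ (hMΩ v.2)).1]
        exact sub_self _
      · rw [AddSubgroup.coe_sub, hΦ, map_sub]
  -- the contradiction
  obtain ⟨a0, ha0⟩ := (hom_bij φ).2 (Q (ι e0))
  obtain ⟨a1, ha1⟩ := (hom_bij φ).2 (Q (ι e1))
  have hfinal : ∀ c : F, k * c ^ 2 ^ m = th F m c * a0 + c * a1 := fun c => by
    refine φ.injective ?_
    have h1 := hkey c (ι e3)
    rw [hι.D_uS hF, show uD m 0 c e3 = th F m c • e0 + c • e1 by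
      funext i; fin_cases i <;> simp [uD, fQ, he0, he1, he3], map_add, hι.smul, hι.smul, map_add, map_smul,
      map_smul, ← ha0, ← ha1, smul_eq_mul, smul_eq_mul, ← map_mul, ← map_mul, ← map_add] at h1
    rw [← h1, show (fun b => χ (Φf b c (ι e3))) = φ (k * c ^ 2 ^ m) • (fun b => φ (b ^ 2 ^ m)) by
      funext b; rw [hχ, ← hα, hαval, Pi.smul_apply, smul_eq_mul, ← map_mul], map_smul, hL1, smul_eq_mul, mul_one]
  have hinj : Function.Injective (![hh m, 2 * hh m, 1] : Fin 3 → Ex m) := by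
    have q1 : (2 : Ex m) ^ (m + 1) ≠ 2 ^ 0 := two_pow_ne hm (by
      rw [Nat.mod_eq_of_lt (by omega), Nat.zero_mod]; omega)
    have q2 : (2 : Ex m) ^ (m + 1) ≠ 2 ^ m := two_pow_ne hm (by
      rw [Nat.mod_eq_of_lt (by omega), Nat.mod_eq_of_lt (by omega)]; omega)
    have q3 : (2 : Ex m) ^ m ≠ 2 ^ 0 := two_pow_ne hm (by
      rw [Nat.mod_eq_of_lt (by omega), Nat.zero_mod]; omega)
    rw [pow_succ', ← hh, pow_zero] at q1
    rw [pow_succ', ← hh] at q2
    rw [← hh, pow_zero] at q3
    intro i i' hii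
    fin_cases i <;> fin_cases i' <;> simp at hii <;> first
      | rfl | exact absurd hii q1 | exact absurd hii.symm q1 | exact absurd hii q2
      | exact absurd hii.symm q2 | exact absurd hii q3 | exact absurd hii.symm q3
  have h3 := coef_eq_zero hF _ hinj ![k, -a0, -a1] (fun t => by
    have h4 := hfinal (t : F)
    rw [th_tp hF, ← tp_two_pow hF, ← hh] at h4
    simp [Fin.sum_univ_three, tp_one hF]
    linear_combination h4) 0
  exact hk0 h3

end CfsgLib.SzModule
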