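import Cfsg.Agent.Lib.SzModule.Weight

/-!
# Lifting fixed vectors over a natural submodule

If the quotient by a natural submodule has the top part `v0 ↦ e1, y1` of a natural module, then the
fixed vector `e1` lifts to a fixed vector.
-/

set_option autoImplicit false
set_option linter.all false
set_option maxHeartbeats 1600000

namespace CfsgLib.SzModule

open CfsgLib.Lie.Suzuki
open scoped Matrix

variable {F : Type*} [Field F] [CharP F 2] [Fintype F] {m : ℕ}
  (hF : Fintype.card F = 2 ^ (2 * m + 1))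
variable {V : Type*} [AddCommGroup V] [Module F V] {ρ : Cfsg.Sz F m →* Module.End F V}
variable {φ : F →+* F} {ι : (Fin 4 → F) →+ V}

include hF in
theorem th_one_eq : th F m (1 : F) = 1 := map_one _

/-- `θ = 3 + τ` forces `τ = 1`. -/
theorem tau_one (hm : 1 ≤ m) {j : ℕ} (h : 2 * hh m = 3 + (2 : Ex m) ^ j) : (2 : Ex m) ^ j = 1 := by
  rw [two_pow_mod] at h ⊢
  set j' := j % (2 * m + 1) with hj'
  have hlt : j' ≤ 2 * m := Nat.le_of_lt_succ (Nat.mod_lt _ (by omega))
  rcases Nat.eq_zero_or_pos j' with h0 | hpos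
  · rw [h0, pow_zero]
  exfalso
  have hc : ((2 ^ (m + 1) : ℕ) : Ex m) = ((3 + 2 ^ j' : ℕ) : Ex m) := by
    push_cast
    rw [← h, hh, ← pow_succ']
  rw [ZMod.natCast_eq_natCast_iff] at hc
  rcases Nat.lt_or_ge m 2 with hm1 | hm2
  · obtain rfl : m = 1 := by omega
    interval_cases j' <;> simp [qq, Nat.ModEq] at hc
  · have h1 : 2 ^ j' ≤ 2 ^ (2 * m) := Nat.pow_le_pow_right two_pos hlt
    have h2 : 2 ^ (m + 1) ≤ 2 ^ (2 * m) := Nat.pow_le_pow_right two_pos (by omega)
    have h3 : 16 ≤ 2 ^ (2 * m) := by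
      calc 16 = 2 ^ 4 := rfl
        _ ≤ _ := Nat.pow_le_pow_right two_pos (by omega)
    have h4 : 2 ∣ 2 ^ j' := dvd_pow_self 2 hpos.ne'
    have h5 : 2 ∣ 2 ^ (m + 1) := dvd_pow_self 2 (by omega)
    have h6 := Nat.ModEq.eq_of_lt_of_lt hc (by unfold qq; rw [pow_succ]; omega) (by unfold qq; rw [pow_succ 2 (2 * m)]; omega)
    omega

/-- A fixed vector lifts. -/
theorem NatEmb.exists_fixed_lift (hι : NatEmb ρ φ ι) (hm : 1 ≤ m) (j : ℕ) {e1 y1 v0 : V}
    (he1 : e1 ∈ Eig hF ρ φ ((2 : Ex m) ^ j)) (hy1 : y1 ∈ Eig hF ρ φ ((2 * hh m - 1) * 2 ^ j))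
    (hv0 : v0 ∈ Eig hF ρ φ (-(2 : Ex m) ^ j))
    (hFe : ∀ a, D ρ (uS hF a 0) e1 ∈ ι.range) (hZe : ∀ b, D ρ (uS hF 0 b) e1 ∈ ι.range)
    (hFy : ∀ a, D ρ (uS hF a 0) y1 + φ (a ^ 2 ^ j) • e1 ∈ ι.range)
    (hZy : ∀ b, D ρ (uS hF 0 b) y1 ∈ ι.range)
    (hZv : ∀ b, D ρ (uS hF 0 b) v0 + φ (th F m b ^ 2 ^ j) • e1 + φ (b ^ 2 ^ j) • y1 ∈ ι.range) :
    ∃ e : V, e + e1 ∈ ι.range ∧ e ∈ Eig hF ρ φ ((2 : Ex m) ^ j) ∧ ∀ a b, ρ (uS hF a b) e = e := by
  classical
  have h22 : (2 : F) = 0 := CharTwo.two_eq_zero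
  obtain ⟨h, hh_def⟩ : ∃ h, h = hh m := ⟨_, rfl⟩
  have hsq : 2 * (h * h) = 1 := hh_def ▸ two_hh_sq
  have hpow : h = (2 : Ex m) ^ m := hh_def
  obtain ⟨τ, hτ⟩ : ∃ τ : Ex m, τ = 2 ^ j := ⟨_, rfl⟩
  obtain ⟨Y, hY⟩ : ∃ Y : Ex m, Y = (2 * h - 1) * τ := ⟨_, rfl⟩
  rw [← hτ] at he1 hv0 ⊢
  rw [← hh_def, ← hτ, ← hY] at hy1
  have hYτ : Y ≠ τ := by
    intro e
    have h1 : τ * (2 * h - 2) = 0 := by rw [hY] at e; linear_combination e
    rw [hτ] at h1
    have h2 : (2 : Ex m) * h - 2 = 0 := (IsUnit.mul_right_eq_zero (isUnit_two.pow j)).1 h1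
    refine two_pow_ne hm (a := m + 1) (b := 1) ?_ ?_
    · rw [Nat.mod_eq_of_lt (by omega), Nat.mod_eq_of_lt (by omega)]; omega
    · rw [pow_succ', ← hpow, pow_one]; exact sub_eq_zero.1 h2
  -- exponents as functions
  have hτpow : ∀ t : Fˣ, tp τ t = (t : F) ^ 2 ^ j := fun t => hτ ▸ tp_two_pow hF j t
  have htp2h : ∀ s : Fˣ, th F m (s : F) = tp (2 * h) s := fun s => hh_def ▸ th_tp hF s
  have hθτ : ∀ s : Fˣ, th F m (s : F) ^ 2 ^ j = tp (2 * h * τ) s := fun s => by
    rw [htp2h, ← sub_pow_val, ← hτpow, tp_sub_pow hF]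
  -- moving along the torus
  have hcB : ∀ (s : Fˣ) (b : F) {w : V} {ω : Ex m}, w ∈ Eig hF ρ φ ω →
      ρ (tS hF (sub_pow h s)) (D ρ (uS hF 0 b) w) = φ (tp (h * ω) s) • D ρ (uS hF 0 (s * b)) w := by
    intro s b w ω hw
    rw [D_conj ρ (g' := uS hF 0 (s * b)) (by have := kB_conj hF s b; rwa [kB, ← hh_def] at this), hw, tp_sub_pow hF,
      map_smul]
  have hcA : ∀ (s : Fˣ) (a : F) {w : V} {ω : Ex m}, w ∈ Eig hF ρ φ ω →
      ρ (tS hF (sub_pow (1 + h) s)) (D ρ (uS hF a 0) w) = φ (tp ((1 + h) * ω) s) • D ρ (uS hF (s * a) 0) w := by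
    intro s a w ω hw
    rw [D_conj ρ (g' := uS hF (s * a) 0) (by have := kA_conj hF s a; rwa [kA, ← hh_def] at this), hw, tp_sub_pow hF,
      map_smul]
  -- group identities
  have hzz : ∀ b b' : F, uS hF 0 b' * uS hF 0 b = uS hF 0 (b + b') := fun b b' => by
    rw [uS_mul, map_zero, zero_mul, add_zero, add_zero, add_comm b' b]
  have hff : ∀ a c : F, uS hF a 0 * uS hF c 0 = uS hF (a + c) 0 * uS hF 0 (th F m a * c) := fun a c => by
    rw [uS_mul, uS_mul]; simp
  have hsq2 : ∀ (g : Cfsg.Sz F m) (w : V), D ρ (g * g) w = D ρ g (D ρ g w) := fun g w => by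
    rw [D_mul, add_self (F := F), zero_add]
  have hDz0 : ∀ w : V, D ρ (uS hF (0 : F) 0) w = 0 := fun w => by rw [uS_one, D_one]
  -- the lifts
  obtain ⟨r0, hr0⟩ : ∃ r0, ι r0 = D ρ (uS hF 0 1) v0 + e1 + y1 := by
    obtain ⟨r, hr⟩ := hZv 1
    refine ⟨r, hr.trans ?_⟩
    simp
  obtain ⟨e, he⟩ : ∃ e, e = pr hF ρ φ τ (D ρ (uS hF 0 1) v0) := ⟨_, rfl⟩
  obtain ⟨y, hy⟩ : ∃ y, y = pr hF ρ φ Y (D ρ (uS hF 0 1) v0) := ⟨_, rfl⟩
  have heE : e ∈ Eig hF ρ φ τ := he ▸ pr_mem hF ρ φ τ _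
  have hyE : y ∈ Eig hF ρ φ Y := hy ▸ pr_mem hF ρ φ Y _
  have hee : e + e1 ∈ ι.range := by
    have h1 := congrArg (pr hF ρ φ τ) hr0
    rw [hι.pr_ι hF, map_add, map_add, pr_eig hF ρ φ he1, pr_eig hF ρ φ hy1, if_pos rfl, if_neg hYτ, add_zero,
      ← he] at h1
    exact ⟨_, h1⟩
  have hyy : y + y1 ∈ ι.range := by
    have h1 := congrArg (pr hF ρ φ Y) hr0
    rw [hι.pr_ι hF, map_add, map_add, pr_eig hF ρ φ he1, pr_eig hF ρ φ hy1, if_pos rfl, if_neg (Ne.symm hYτ),
      add_zero, ← hy] at h1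
    exact ⟨_, h1⟩
  have hDr : ∀ (g : Cfsg.Sz F m) {w : V}, w ∈ ι.range → D ρ g w ∈ ι.range := fun g w hw =>
    add_mem (hι.map_range g hw) hw
  have hfix : ∀ (g : Cfsg.Sz F m) (w w1 : V), w + w1 ∈ ι.range → D ρ g w1 ∈ ι.range → D ρ g w ∈ ι.range := by
    intro g w w1 h1 h2
    have h3 := hDr g h1
    rw [map_add] at h3
    exact (AddSubgroup.add_mem_cancel_right _ h2).1 h3
  -- coordinates
  choose ce hce using fun b => hfix (uS hF 0 b) e e1 hee (hZe b)
  have hce' := hce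
  choose cy hcy using fun b => hfix (uS hF 0 b) y y1 hyy (hZy b)
  choose cf hcf using fun a => hfix (uS hF a 0) e e1 hee (hFe a)
  have hdf' : ∀ a, D ρ (uS hF a 0) y + φ (a ^ 2 ^ j) • e ∈ ι.range := fun a => by
    have h1 := add_mem (hFy a) (add_mem (hDr (uS hF a 0) hyy) (hι.smul_range (a ^ 2 ^ j) hee))
    convert h1 using 1
    rw [map_add, smul_add]
    calc D ρ (uS hF a 0) y + φ (a ^ 2 ^ j) • e
        = D ρ (uS hF a 0) y + φ (a ^ 2 ^ j) • e + ((D ρ (uS hF a 0) y1 + D ρ (uS hF a 0) y1) +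
          (φ (a ^ 2 ^ j) • e1 + φ (a ^ 2 ^ j) • e1)) := by simp only [add_self (F := F), add_zero]
      _ = _ := by abel
  choose df hdf using hdf'
  have hR' : ∀ b, D ρ (uS hF 0 b) v0 + φ (th F m b ^ 2 ^ j) • e + φ (b ^ 2 ^ j) • y ∈ ι.range := fun b => by
    have h1 := add_mem (hZv b) (add_mem (hι.smul_range (th F m b ^ 2 ^ j) hee) (hι.smul_range (b ^ 2 ^ j) hyy))
    convert h1 using 1
    rw [smul_add, smul_add]
    calc D ρ (uS hF 0 b) v0 + φ (th F m b ^ 2 ^ j) • e + φ (b ^ 2 ^ j) • y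
        = D ρ (uS hF 0 b) v0 + φ (th F m b ^ 2 ^ j) • e + φ (b ^ 2 ^ j) • y +
          ((φ (th F m b ^ 2 ^ j) • e1 + φ (th F m b ^ 2 ^ j) • e1) + (φ (b ^ 2 ^ j) • y1 + φ (b ^ 2 ^ j) • y1)) := by
          simp only [add_self (F := F), add_zero]
      _ = _ := by abel
  choose r hr using hR'
  -- homogeneity
  have hE_ce : ∀ k, Homog ((wt m k - τ) * h) fun b => ce b k :=
    hι.homog hF ce _ hce h τ fun s b => hcB s b heE
  have hE_cy : ∀ k, Homog ((wt m k - Y) * h) fun b => cy b k :=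
    hι.homog hF cy _ hcy h Y fun s b => hcB s b hyE
  have hE_cf : ∀ k, Homog ((wt m k - τ) * (1 + h)) fun a => cf a k :=
    hι.homog hF cf _ hcf (1 + h) τ fun s a => hcA s a heE
  have hE_df : ∀ k, Homog ((wt m k - Y) * (1 + h)) fun a => df a k := by
    refine hι.homog hF df _ hdf (1 + h) Y fun s a => ?_
    rw [map_add, map_smul, hcA s a hyE, heE, smul_smul, smul_add, smul_smul, ← map_mul, ← map_mul]
    congr 2
    rw [tp_sub_pow hF, mul_pow, ← hτpow, ← mul_assoc, ← tp_add hF, mul_comm]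
    congr 2
    congr 1
    rw [hY]; linear_combination -τ * hsq
  have hE_r : ∀ k, Homog ((wt m k - -τ) * h) fun b => r b k := by
    refine hι.homog hF r _ hr h (-τ) fun s b => ?_
    rw [map_add, map_add, map_smul, map_smul, hcB s b hv0, heE, hyE, smul_smul, smul_smul, smul_add, smul_add,
      smul_smul, smul_smul, ← map_mul, ← map_mul, ← map_mul, ← map_mul]
    congr 2
    · congr 2
      rw [tp_sub_pow hF, map_mul, mul_pow, hθτ, ← mul_assoc, ← tp_add hF, mul_comm]
      congr 2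
      ring
    · congr 1
      rw [tp_sub_pow hF, mul_pow, ← hτpow, ← mul_assoc, ← tp_add hF, mul_comm]
      congr 2
      rw [hY]; linear_combination τ * hsq
  have hr00 : r 0 = 0 := hι.inj (by rw [hr, map_zero, hDz0]; simp)
  have hcf0 : cf 0 = 0 := hι.inj (by rw [hcf, map_zero, hDz0])
  have hce0 : ce 0 = 0 := hι.inj (by rw [hce, map_zero, hDz0])
  have hcy0 : cy 0 = 0 := hι.inj (by rw [hcy, map_zero, hDz0])
  have hdf0 : df 0 = 0 := hι.inj (by rw [hdf, map_zero, hDz0]; simp)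
  -- the normalisation of the lifts
  have hrvan : ∀ k, (wt m k = τ ∨ wt m k = Y) → ∀ b, r b k = 0 := by
    intro k hk b
    refine (hE_r k).eq_zero (congrFun hr00 k) ?_ b
    have h1 := hr 1
    simp only [map_one, one_pow, one_smul] at h1
    rcases hk with hk | hk
    · have h2 := congrArg (pr hF ρ φ τ) h1
      rw [hι.pr_ι hF, map_add, map_add, pr_eig hF ρ φ heE, pr_eig hF ρ φ hyE, if_pos rfl, if_neg hYτ, add_zero,
        ← he, add_self (F := F), ← map_zero ι] at h2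
      have := congrFun (hι.inj h2) k
      simpa [hk] using this
    · have h2 := congrArg (pr hF ρ φ Y) h1
      rw [hι.pr_ι hF, map_add, map_add, pr_eig hF ρ φ heE, pr_eig hF ρ φ hyE, if_pos rfl, if_neg (Ne.symm hYτ),
        add_zero, ← hy, add_self (F := F), ← map_zero ι] at h2
      have := congrFun (hι.inj h2) k
      simpa [hk] using this
  -- the central involutions send `e`, `y` into the last two coordinates
  have hW : ∀ (c : F → Fin 4 → F) (w : V), (∀ b, ι (c b) = D ρ (uS hF 0 b) w) →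
      (∀ b, c b 2 = 0 ∧ c b 3 = 0) ∧ ∀ b b', c (b + b') = c b + c b' := by
    intro c w hc
    have hc0 : c 0 = 0 := hι.inj (by rw [hc, map_zero, hDz0])
    have h23 : ∀ b, c b 2 = 0 ∧ c b 3 = 0 := by
      intro b
      rcases eq_or_ne b 0 with rfl | hb
      · simp [hc0]
      have h0 : uD m 0 b (c b) = 0 := hι.inj (by
        rw [map_zero, ← hι.D_uS hF, hc, ← hsq2, hzz, CharTwo.add_self_eq_zero, hDz0])
      have a1 := congrFun h0 1
      have a0 := congrFun h0 0
      simp [uD, fQ] at a0 a1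
      have h3 : c b 3 = 0 := a1.resolve_left hb
      refine ⟨?_, h3⟩
      rw [h3, mul_zero, add_zero] at a0
      exact (mul_eq_zero.1 a0).resolve_left hb
    refine ⟨h23, fun b b' => hι.inj ?_⟩
    rw [map_add, hc, hc, hc, ← hzz, D_mul, ← hc b, hι.D_uS hF,
      show uD m 0 b' (c b) = 0 by funext k; fin_cases k <;> simp [uD, h23 b], map_zero, add_zero]
    exact add_comm _ _
  obtain ⟨hceW, hceA⟩ := hW ce e hce
  obtain ⟨hcyW, hcyA⟩ := hW cy y hcy
  -- equations from the squares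
  have hceN : ∀ a : F, ce (th F m a * a) = uD m a 0 (cf a) := fun a => hι.inj (by
    rw [hce, ← hι.D_uS hF, hcf, ← hsq2, hff, CharTwo.add_self_eq_zero, uS_one, one_mul])
  have hcyN : ∀ a : F, cy (th F m a * a) = a ^ 2 ^ j • cf a + uD m a 0 (df a) := fun a => hι.inj (by
    rw [hcy, map_add, hι.smul, hcf, ← hι.D_uS hF, hdf, map_add, map_smul, ← hsq2, hff, CharTwo.add_self_eq_zero,
      uS_one, one_mul]
    calc D ρ (uS hF 0 (th F m a * a)) y
        = D ρ (uS hF 0 (th F m a * a)) y +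
          (φ (a ^ 2 ^ j) • D ρ (uS hF a 0) e + φ (a ^ 2 ^ j) • D ρ (uS hF a 0) e) := by
          rw [add_self (F := F), add_zero]
      _ = _ := by abel)
  have hcfC : ∀ a c, cf (a + c) + ce (th F m a * c) + uD m (a + c) 0 (ce (th F m a * c)) =
      cf a + cf c + uD m a 0 (cf c) := fun a c => hι.inj (by
    rw [map_add, map_add, map_add, map_add, ← hι.D_uS hF, ← hι.D_uS hF, hcf, hcf, hcf, hce, ← D_mul, ← D_mul,
      hff])
  have hdfC : ∀ a c, df (a + c) + cy (th F m a * c) + uD m (a + c) 0 (cy (th F m a * c)) =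
      df a + df c + (c ^ 2 ^ j • cf a + uD m a 0 (df c)) := fun a c => hι.inj (by
    have h1 := D_mul ρ (uS hF (a + c) 0) (uS hF 0 (th F m a * c)) y
    have h2 := D_mul ρ (uS hF a 0) (uS hF c 0) y
    rw [hff] at h2
    have h3 : (a + c) ^ 2 ^ j = a ^ 2 ^ j + c ^ 2 ^ j := add_pow_char_pow a c 2 j
    rw [map_add, map_add, map_add, map_add, map_add, hι.smul, ← hι.D_uS hF, ← hι.D_uS hF, hdf, hdf, hdf, hcy, hcf,
      map_add, map_smul, h3, map_add, add_smul]
    rw [h1] at h2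
    calc D ρ (uS hF (a + c) 0) y + (φ (a ^ 2 ^ j) • e + φ (c ^ 2 ^ j) • e) + D ρ (uS hF 0 (th F m a * c)) y +
          D ρ (uS hF (a + c) 0) (D ρ (uS hF 0 (th F m a * c)) y)
        = (D ρ (uS hF (a + c) 0) y + D ρ (uS hF 0 (th F m a * c)) y +
          D ρ (uS hF (a + c) 0) (D ρ (uS hF 0 (th F m a * c)) y)) + (φ (a ^ 2 ^ j) • e + φ (c ^ 2 ^ j) • e) +
          (φ (c ^ 2 ^ j) • D ρ (uS hF a 0) e + φ (c ^ 2 ^ j) • D ρ (uS hF a 0) e) := by
          rw [add_self (F := F), add_zero]; abel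
      _ = _ := by rw [h2]; abel)
  have hstar : ∀ b b' k, r (b + b') k = r b k + r b' k + th F m b ^ 2 ^ j * ce b' k + b ^ 2 ^ j * cy b' k +
      uD m 0 b' (r b) k := by
    intro b b' k
    have key : r (b + b') = r b + r b' + th F m b ^ 2 ^ j • ce b' + b ^ 2 ^ j • cy b' + uD m 0 b' (r b) := hι.inj (by
      have h1 : D ρ (uS hF 0 (b + b')) v0 = D ρ (uS hF 0 b') v0 + D ρ (uS hF 0 b) v0 +
          D ρ (uS hF 0 b') (D ρ (uS hF 0 b) v0) := by rw [← hzz, D_mul]
      have h2 : (b + b') ^ 2 ^ j = b ^ 2 ^ j + b' ^ 2 ^ j := add_pow_char_pow b b' 2 j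
      have h3 : th F m (b + b') ^ 2 ^ j = th F m b ^ 2 ^ j + th F m b' ^ 2 ^ j := by
        rw [map_add]; exact add_pow_char_pow _ _ 2 j
      rw [map_add, map_add, map_add, map_add, hι.smul, hι.smul, ← hι.D_uS hF, hr, hr, hr, hce, hcy, h1, h2, h3]
      simp only [map_add, map_smul, add_smul]
      calc _ = D ρ (uS hF 0 b') v0 + D ρ (uS hF 0 b) v0 + D ρ (uS hF 0 b') (D ρ (uS hF 0 b) v0) +
            (φ (th F m b ^ 2 ^ j) • e + φ (th F m b' ^ 2 ^ j) • e) + (φ (b ^ 2 ^ j) • y + φ (b' ^ 2 ^ j) • y) +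
            ((φ (th F m b ^ 2 ^ j) • D ρ (uS hF 0 b') e + φ (th F m b ^ 2 ^ j) • D ρ (uS hF 0 b') e) +
             (φ (b ^ 2 ^ j) • D ρ (uS hF 0 b') y + φ (b ^ 2 ^ j) • D ρ (uS hF 0 b') y)) := by
              simp only [add_self (F := F), add_zero]
        _ = _ := by abel)
    have := congrFun key k
    simpa using this
  have hsym : ∀ b b' k, th F m b ^ 2 ^ j * ce b' k + b ^ 2 ^ j * cy b' k + uD m 0 b' (r b) k =
      th F m b' ^ 2 ^ j * ce b k + b' ^ 2 ^ j * cy b k + uD m 0 b (r b') k := by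
    intro b b' k
    have h1 := hstar b b' k
    have h2 := hstar b' b k
    rw [add_comm b' b] at h2
    linear_combination h2 - h1
  obtain ⟨nf, hnf0, hnf1⟩ := exists_ne (F := F) hm hF
  -- top of `cf`
  have hcf3 : ∀ a, cf a 3 = 0 := fun a => by
    rcases eq_or_ne a 0 with rfl | ha
    · rw [hcf0]; rfl
    have h1 := congrFun (hceN a) 2
    rw [(hceW _).1] at h1
    simp [uD, ha] at h1
    exact h1
  have hcfA2 : ∀ a c, cf (a + c) 2 = cf a 2 + cf c 2 := fun a c => by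
    have := congrFun (hcfC a c) 2
    simpa [uD, hcf3, (hceW _).1, (hceW _).2] using this
  have hN1 : ∀ k, ce 1 k = uD m 1 0 (cf 1) k := fun k => by
    have := congrFun (hceN 1) k
    rwa [map_one, one_mul] at this
  -- the third coordinate of `cf`
  have hS3 : cf 1 2 = 0 := by
    by_contra hne
    obtain ⟨l, hl, hEl⟩ := (hE_cf 2).additive hF hcfA2 hne
    have hce1 : ce 1 1 ≠ 0 := by
      rw [hN1]; simp [uD, hcf3]; exact hne
    obtain ⟨p, hp, hEp⟩ := (hE_ce 1).additive hF (fun b b' => congrFun (hceA b b') 1) hce1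
    simp [wt, ← hh_def] at hEl hEp
    have key : (2 : Ex m) ^ (p + m + 1) + 2 ^ p = 2 ^ (m + 1) + 2 ^ l := by
      rw [show p + m + 1 = p + (m + 1) by omega, pow_add, pow_succ' 2 m, ← hpow, ← hEp, ← hEl]
      linear_combination (2 * h + 1 - τ) * hsq
    have hτ1 : τ = 1 := by
      rcases two_pows_eq hm key with ⟨h1, h2⟩ | ⟨h1, h2⟩
      · -- `p = 0`
        exfalso
        have hp0 : (2 : Ex m) ^ p = 1 := by
          rw [two_pow_mod]
          rw [Nat.mod_eq_of_lt hp] at *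
          rw [Nat.mod_eq_of_lt hl] at *
          have : p = 0 := by
            rw [Nat.mod_eq_of_lt (show m + 1 < 2 * m + 1 by omega)] at h1
            rcases Nat.lt_or_ge (p + m + 1) (2 * m + 1) with h3 | h3
            · rw [Nat.mod_eq_of_lt h3] at h1; omega
            · rw [Nat.mod_eq_sub_mod h3, Nat.mod_eq_of_lt (by omega)] at h1; omega
          rw [this, pow_zero]
        rw [hp0] at hEp
        refine two_pow_add_one_ne_zero hm j ?_
        rw [← hτ]
        linear_combination (-2 * h) * hEp + (2 * h - 1 - τ) * hsq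
      · have hp1 : p = m + 1 := by
          rw [Nat.mod_eq_of_lt hp, Nat.mod_eq_of_lt (show m + 1 < 2 * m + 1 by omega)] at h2
          exact h2
        rw [hp1, pow_succ', ← hpow] at hEp
        rw [hτ]
        refine tau_one hm ?_
        rw [← hh_def, ← hτ]
        linear_combination (2 * h) * hEp + ((2 * h - 1 - τ) * (-1 : Ex m) + 2) * hsq
    -- the contradiction
    have hwY : wt m 1 = Y := by simp [wt, ← hh_def, hY, hτ1]
    have hj1 : ∀ b : F, b ^ 2 ^ j = b := fun b => by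
      rcases eq_or_ne b 0 with rfl | hb
      · exact zero_pow (pow_ne_zero j two_ne_zero)
      · have := hτpow (Units.mk0 b hb)
        rw [hτ1, tp_one hF] at this
        exact this.symm
    have hcy1 : ∀ b, cy b 1 = 0 := fun b => by
      refine Homog.additive_zero hm hF (f := fun b => cy b 1) ?_ (fun b b' => congrFun (hcyA b b') 1) b
      have := hE_cy 1
      rwa [hwY, sub_self, zero_mul] at this
    have hg : ∀ s : Fˣ, r (s : F) 3 = r 1 3 := fun s => by
      have := (hE_r 3).apply s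
      rwa [show (wt m 3 - -τ) * h = 0 by simp [wt, hτ1], tp_zero, one_mul] at this
    have hs : ∀ b : F, b ≠ 0 → th F m b * ce 1 1 + r 1 3 = 0 := fun b hb => by
      have h1 := hstar b 1 1
      rw [hrvan 1 (Or.inr hwY), hrvan 1 (Or.inr hwY), hrvan 1 (Or.inr hwY), hcy1, hj1] at h1
      have h3 := hg (Units.mk0 b hb)
      rw [Units.val_mk0] at h3
      simp [uD, h3] at h1
      linear_combination -h1
    have h1 := hs 1 one_ne_zero
    have h2 := hs nf hnf0
    rw [map_one, one_mul] at h1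
    have h3 : (th F m nf - 1) * ce 1 1 = 0 := by linear_combination h2 - h1
    rcases mul_eq_zero.1 h3 with h4 | h4
    · exact hnf1 ((th_bij (F := F) (m := m)).1 (by rw [map_one]; exact sub_eq_zero.1 h4))
    · exact hce1 h4
  have hcf2 : ∀ a, cf a 2 = 0 := fun a => (hE_cf 2).eq_zero (congrFun hcf0 2) hS3 a
  have hce1 : ∀ b, ce b 1 = 0 := fun b => (hE_ce 1).eq_zero (congrFun hce0 1)
    (by show ce 1 1 = 0; rw [hN1]; simp [uD, hcf3, hS3]) b
  have hcfA1 : ∀ a c, cf (a + c) 1 = cf a 1 + cf c 1 := fun a c => by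
    have := congrFun (hcfC a c) 1
    simpa [uD, hcf3, hcf2, hce1, (hceW _).1, (hceW _).2] using this
  -- the second coordinate of `cf`
  have hS4 : cf 1 1 = 0 := by
    by_contra hne
    obtain ⟨l, hl, hEl⟩ := (hE_cf 1).additive hF hcfA1 hne
    have hceE : ce 1 0 ≠ 0 := by
      rw [hN1]; simp [uD, hcf3, hcf2]; exact hne
    obtain ⟨p, hp, hEp⟩ := (hE_ce 0).additive hF (fun b b' => congrFun (hceA b b') 0) hceE
    simp [wt, ← hh_def] at hEl hEp
    have key : (2 : Ex m) ^ (p + m + 1) + 2 ^ p = 2 ^ l + 2 ^ 0 := by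
      rw [show p + m + 1 = p + (m + 1) by omega, pow_add, pow_succ' 2 m, ← hpow, ← hEp, ← hEl]
      linear_combination (-τ) * hsq
    rcases two_pows_eq hm key with ⟨h1, h2⟩ | ⟨h1, h2⟩
    · rw [Nat.zero_mod, Nat.mod_eq_of_lt hp] at h2
      rw [h2, pow_zero] at hEp
      have h3 : (2 : Ex m) ^ j + 2 ^ (m + 1) = 2 ^ (2 * m) + 2 ^ (2 * m) := by
        rw [← hτ, pow_succ' 2 m, ← hpow, show (2 : Ex m) ^ (2 * m) = h * h by rw [hpow, ← pow_add, two_mul]]
        linear_combination (-2 * h) * hEp + (1 - τ - 1) * hsq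
      rcases two_pows_eq hm h3 with ⟨h4, h5⟩ | ⟨h4, h5⟩ <;>
      · rw [Nat.mod_eq_of_lt (show m + 1 < 2 * m + 1 by omega), Nat.mod_eq_of_lt (show 2 * m < 2 * m + 1 by omega)] at h5
        rw [Nat.mod_eq_of_lt (show 2 * m < 2 * m + 1 by omega)] at h4
        obtain rfl : m = 1 := by omega
        have hτ4 : τ = 4 := by rw [hτ, two_pow_mod, h4]; rfl
        obtain rfl : h = 2 := hpow.trans (pow_one _)
        subst hτ4
        obtain rfl : Y = 5 := hY.trans (by decide)
        have hcy5 : ∀ b, cy b 0 = 0 := fun b => by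
          refine (hE_cy 0).eq_zero (congrFun hcy0 0) ?_ b
          by_contra hc
          obtain ⟨l', hl', he'⟩ := (hE_cy 0).additive hF (fun b b' => congrFun (hcyA b b') 0) hc
          interval_cases l' <;> revert he' <;> simp [wt, hh] <;> decide
        have hid : ∀ s : Fˣ, ∑ k : Fin 4, ![ce 1 0, r 1 3, ce 1 0, r 1 3] k * tp (![2, 6, 1, 4] k : Ex 1) s = 0 := by
          intro s
          have h1 := hsym (s : F) 1 0
          rw [hcy5, hcy5] at h1
          simp only [uD, Matrix.cons_val_zero, hrvan 2 (Or.inl (by decide)), map_one, one_pow, one_mul, mul_zero,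
            zero_mul, zero_add, add_zero] at h1
          rw [hθτ, (hE_ce 0).apply s, (hE_r 3).apply s] at h1
          simp [fQ, map_one, htp2h] at h1
          rw [show ((wt 1 0 - 4) * 2 : Ex 1) = 1 from by decide, show ((wt 1 3 + 4) * 2 : Ex 1) = 6 from by decide,
            show (2 * 2 * 4 : Ex 1) = 2 from by decide, show (2 * 2 : Ex 1) = 4 from by decide] at h1
          simp [Fin.sum_univ_four]
          grind
        exact hceE (coef_eq_zero hF _ (by decide) _ hid 0)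
    · rw [Nat.zero_mod] at h1
      have hpm : p = m := by
        rw [Nat.mod_eq_of_lt hp] at h2
        rcases Nat.lt_or_ge (p + m + 1) (2 * m + 1) with h3 | h3
        · rw [Nat.mod_eq_of_lt h3] at h1; omega
        · rw [Nat.mod_eq_sub_mod h3, Nat.mod_eq_of_lt (by omega)] at h1; omega
      rw [hpm, ← hpow] at hEp
      refine two_pow_ne_zero hm j ?_
      rw [← hτ]
      linear_combination (-2 * h) * hEp - τ * hsq
  have hcf1 : ∀ a, cf a 1 = 0 := fun a => (hE_cf 1).eq_zero (congrFun hcf0 1) hS4 a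
  have hceE : ∀ b, ce b 0 = 0 := fun b => (hE_ce 0).eq_zero (congrFun hce0 0)
    (by show ce 1 0 = 0; rw [hN1]; simp [uD, hcf3, hcf2, hS4]) b
  have hce : ∀ b, ce b = 0 := fun b => by
    funext k; fin_cases k
    · exact hceE b
    · exact hce1 b
    · exact (hceW b).1
    · exact (hceW b).2
  have hcfA0 : ∀ a c, cf (a + c) 0 = cf a 0 + cf c 0 := fun a c => by
    have := congrFun (hcfC a c) 0
    simpa [uD, hcf3, hcf2, hcf1, hce] using this
  -- the first coordinate of `cf`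
  have hS5 : cf 1 0 = 0 := by
    by_contra hne
    obtain ⟨l, hl, hEl⟩ := (hE_cf 0).additive hF hcfA0 hne
    simp [wt] at hEl
    have key : (2 : Ex m) ^ j + 2 ^ (l + 1) = 2 ^ 0 + 2 ^ (l + m + 1) := by
      rw [← hτ, show l + m + 1 = l + (m + 1) by omega, pow_succ 2 l, pow_add 2 l, pow_succ' 2 m, ← hpow, ← hEl]
      linear_combination -(1 - τ) * hsq
    have hτh : τ = h := by
      rw [hτ, hpow, two_pow_mod j, two_pow_mod m]
      rcases two_pows_eq hm key with ⟨h1, h2⟩ | ⟨h1, h2⟩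
      · exfalso
        rcases Nat.lt_or_ge (l + m + 1) (2 * m + 1) with h3 | h3
        · rw [Nat.mod_eq_of_lt (show l + 1 < 2 * m + 1 by omega), Nat.mod_eq_of_lt h3] at h2; omega
        · rw [Nat.mod_eq_sub_mod h3, Nat.mod_eq_of_lt (show l + m + 1 - (2 * m + 1) < 2 * m + 1 by omega)] at h2
          rcases Nat.lt_or_ge (l + 1) (2 * m + 1) with h4 | h4
          · rw [Nat.mod_eq_of_lt h4] at h2; omega
          · rw [show l + 1 = 2 * m + 1 by omega, Nat.mod_self] at h2; omega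
      · have hl2 : l = 2 * m := by
          rw [Nat.zero_mod] at h2
          rcases Nat.lt_or_ge (l + 1) (2 * m + 1) with h4 | h4
          · rw [Nat.mod_eq_of_lt h4] at h2; omega
          · omega
        rw [h1, hl2, show 2 * m + m + 1 = m + (2 * m + 1) by omega, Nat.add_mod_right]
    have hY' : Y = (2 * h - 1) * h := hY.trans (by rw [hτh])
    have hdf3 : ∀ a, df a 3 = 0 := fun a => by
      rcases eq_or_ne a 0 with rfl | ha
      · rw [hdf0]; rfl
      have h1 := congrFun (hcyN a) 2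
      rw [(hcyW _).1] at h1
      simp [uD, hcf2, ha] at h1
      exact h1
    have hdfA2 : ∀ a c, df (a + c) 2 = df a 2 + df c 2 := fun a c => by
      have := congrFun (hdfC a c) 2
      simp only [Pi.add_apply, Pi.smul_apply, smul_eq_mul, hcf2] at this
      simpa [uD, hdf3, (hcyW _).1, (hcyW _).2] using this
    have hM1 : ∀ k, cy 1 k = cf 1 k + uD m 1 0 (df 1) k := fun k => by
      have := congrFun (hcyN 1) k
      simpa using this
    have hK : df 1 2 = 0 := by
      by_contra hk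
      obtain ⟨l', hl', hE'⟩ := (hE_df 2).additive hF hdfA2 hk
      simp [wt, ← hh_def] at hE'
      have k2 : (2 : Ex m) ^ (l' + 1) + 2 ^ m = 2 ^ (l' + m) + 2 ^ (l' + m) := by
        rw [pow_succ 2 l', pow_add 2 l' m, ← hpow, ← hE', hY']
        linear_combination (2 * (h * h) + h - 2) * hsq
      obtain rfl : m = 1 := by
        rcases two_pows_eq hm k2 with ⟨h3, h4⟩ | ⟨h3, h4⟩ <;>
        · rw [Nat.mod_eq_of_lt (show m < 2 * m + 1 by omega)] at h4
          rw [← h4] at h3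
          rcases Nat.lt_or_ge (l' + 1) (2 * m + 1) with h5 | h5
          · rw [Nat.mod_eq_of_lt h5] at h3
            rcases Nat.lt_or_ge (l' + m) (2 * m + 1) with h6 | h6
            · rw [Nat.mod_eq_of_lt h6] at h4; omega
            · rw [Nat.mod_eq_sub_mod h6, Nat.mod_eq_of_lt (by omega)] at h4; omega
          · rw [show l' + 1 = 2 * m + 1 by omega, Nat.mod_self] at h3; omega
      obtain rfl : h = 2 := hpow.trans (pow_one _)
      obtain rfl : Y = 6 := hY'.trans (by decide)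
      have hr3 : ∀ b, r b 3 = 0 := hrvan 3 (Or.inr (by decide))
      have hcy1 : ∀ b : F, cy b 1 = b * df 1 2 := fun b => by
        rcases eq_or_ne b 0 with rfl | hb
        · rw [hcy0, zero_mul]; rfl
        have := (hE_cy 1).apply (Units.mk0 b hb)
        rw [show ((wt 1 1 - 6) * 2 : Ex 1) = 1 from by decide, tp_one hF, Units.val_mk0, hM1] at this
        simpa [uD, hcf1, hdf3] using this
      have h1 := hsym nf 1 1
      simp [uD, hce1, hcy1, hr3] at h1
      have hn2 : nf ^ 2 ^ j = tp (2 : Ex 1) (Units.mk0 nf hnf0) := by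
        have := hτpow (Units.mk0 nf hnf0)
        rw [hτh, Units.val_mk0] at this
        exact this.symm
      rw [hn2, show tp (2 : Ex 1) (Units.mk0 nf hnf0) = nf * nf by
        have := tp_add hF (1 : Ex 1) 1 (Units.mk0 nf hnf0)
        rw [tp_one hF, Units.val_mk0] at this
        rwa [show (2 : Ex 1) = 1 + 1 by norm_num]] at h1
      rcases h1 with h2 | h2
      · exact hnf1 (mul_left_cancel₀ hnf0 (by rw [mul_one]; exact h2))
      · exact hk h2
    have hdf2 : ∀ a, df a 2 = 0 := fun a => (hE_df 2).eq_zero (congrFun hdf0 2) hK a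
    have hcy1 : ∀ b, cy b 1 = 0 := fun b => (hE_cy 1).eq_zero (congrFun hcy0 1)
      (by show cy 1 1 = 0; rw [hM1]; simp [uD, hcf1, hdf3, hK]) b
    have hdfA1 : ∀ a c, df (a + c) 1 = df a 1 + df c 1 := fun a c => by
      have := congrFun (hdfC a c) 1
      simp only [Pi.add_apply, Pi.smul_apply, smul_eq_mul, hcf1] at this
      simpa [uD, hdf3, hdf2, hcy1, (hcyW _).1, (hcyW _).2] using this
    have hD1 : df 1 1 = 0 := by
      by_contra hk
      obtain ⟨l', hl', hE'⟩ := (hE_df 1).additive hF hdfA1 hk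
      simp [wt, ← hh_def] at hE'
      have k2 : (2 : Ex m) ^ l' + 2 ^ 0 = 2 ^ m + 2 ^ (2 * m) := by
        rw [show (2 : Ex m) ^ (2 * m) = h * h by rw [hpow, ← pow_add, two_mul], ← hpow, ← hE', hY']
        linear_combination -h * hsq
      rcases two_pows_eq hm k2 with ⟨-, h4⟩ | ⟨-, h4⟩
      · rw [Nat.zero_mod, Nat.mod_eq_of_lt (show 2 * m < 2 * m + 1 by omega)] at h4; omega
      · rw [Nat.zero_mod, Nat.mod_eq_of_lt (show m < 2 * m + 1 by omega)] at h4; omega
    have hη : cy 1 0 = cf 1 0 := by rw [hM1]; simp [uD, hdf3, hK, hD1]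
    refine hne ?_
    rw [← hη]
    by_contra hν
    -- an exponent of its own
    have hid : ∀ s : Fˣ, ∑ k : Fin 6, ![cy 1 0, cy 1 0, r 1 2, r 1 3, r 1 2, r 1 3] k *
        tp (![(wt m 0 - Y) * h, τ, (wt m 2 - -τ) * h, (wt m 3 - -τ) * h, 1, 2 * h] k : Ex m) s = 0 := by
      intro s
      have h1 := hsym (s : F) 1 0
      simp only [hce, Pi.zero_apply, mul_zero, zero_add, map_one, one_pow, one_mul, ← hτpow] at h1
      rw [(hE_cy 0).apply s] at h1
      simp [uD, fQ, map_one, (hE_r 2).apply s, (hE_r 3).apply s, htp2h] at h1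
      simp [Fin.sum_univ_succ, tp_one hF, -Matrix.cons_val_one]
      grind
    have h00 : (2 : Ex m) ^ (2 * m) = h * h := by rw [hpow, ← pow_add, two_mul]
    have hne' : ∀ a, a % (2 * m + 1) ≠ 2 * m → (2 : Ex m) ^ a ≠ h * h := fun a ha => by
      rw [← h00]; exact two_pow_ne hm (by rwa [Nat.mod_eq_of_lt (show 2 * m < 2 * m + 1 by omega)])
    have hmm : m % (2 * m + 1) ≠ 2 * m := by rw [Nat.mod_eq_of_lt (by omega)]; omega
    refine hν (coef_sep (ι' := Fin 6) hF ![cy 1 0, cy 1 0, r 1 2, r 1 3, r 1 2, r 1 3]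
      ![(wt m 0 - Y) * h, τ, (wt m 2 - -τ) * h, (wt m 3 - -τ) * h, 1, 2 * h] 0 (fun k hk hc => ?_) hid)
    have hw0 : (wt m 0 - Y) * h = h * h := by
      simp only [wt, Matrix.cons_val_zero, hY']; linear_combination -hsq * h + 0 * hsq
    fin_cases k
    · exact absurd rfl hk
    · show τ ≠ _
      rw [show (![(wt m 0 - Y) * h, τ, (wt m 2 - -τ) * h, (wt m 3 - -τ) * h, 1, 2 * h] 0 : Ex m) = _ from hw0, hτh]
      nth_rw 1 [hpow]; exact hne' m hmm
    · show (wt m 2 - -τ) * h ≠ _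
      rw [show (![(wt m 0 - Y) * h, τ, (wt m 2 - -τ) * h, (wt m 3 - -τ) * h, 1, 2 * h] 0 : Ex m) = _ from hw0]
      intro e
      simp [wt, ← hh_def, hτh] at e
      have h5 : h = 1 := by linear_combination e + hsq
      refine two_pow_ne hm (a := m) (b := 0) ?_ (by rw [← hpow, h5, pow_zero])
      rw [Nat.mod_eq_of_lt (by omega), Nat.zero_mod]; omega
    · show (wt m 3 - -τ) * h ≠ _
      rw [show (![(wt m 0 - Y) * h, τ, (wt m 2 - -τ) * h, (wt m 3 - -τ) * h, 1, 2 * h] 0 : Ex m) = _ from hw0]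
      intro e
      simp [wt, hτh] at e
      exact two_pow_ne_zero hm m (by rw [← hpow]; linear_combination -e)
    · show (1 : Ex m) ≠ _
      rw [show (![(wt m 0 - Y) * h, τ, (wt m 2 - -τ) * h, (wt m 3 - -τ) * h, 1, 2 * h] 0 : Ex m) = _ from hw0,
        ← pow_zero (2 : Ex m)]
      exact hne' 0 (by rw [Nat.zero_mod]; omega)
    · show 2 * h ≠ _
      rw [show (![(wt m 0 - Y) * h, τ, (wt m 2 - -τ) * h, (wt m 3 - -τ) * h, 1, 2 * h] 0 : Ex m) = _ from hw0, hpow,
        ← pow_succ']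
      rw [← hpow]
      refine hne' (m + 1) ?_
      rw [Nat.mod_eq_of_lt (by omega)]
      intro h5
      obtain rfl : m = 1 := by omega
      obtain rfl : h = 2 := hpow.trans (pow_one _)
      exact hc (hrvan 3 (Or.inr (by rw [hY']; decide)) 1)
  have hcf' : ∀ a, cf a = 0 := fun a => by
    funext k; fin_cases k
    · exact (hE_cf 0).eq_zero (congrFun hcf0 0) hS5 a
    · exact hcf1 a
    · exact hcf2 a
    · exact hcf3 a
  refine ⟨e, hee, heE, fun a b => ?_⟩
  refine eq_of_add_eq_zero (F := F) ?_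
  rw [← D_apply, show uS hF a b = uS hF a 0 * uS hF 0 b by rw [uS_mul]; simp, D_mul, ← hcf, ← hce',
    hcf', hce, map_zero, map_zero, add_zero, add_zero]

end CfsgLib.SzModule
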