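import Cfsg.Agent.Lib.SzModule.Exp

/-!
# Monomials on the field with `2 ^ (2 m + 1)` elements

`tp E t` is `t` to the power `E`; homogeneous functions are multiples of monomials, and an additive one
has a power of two as exponent.
-/

set_option autoImplicit false
set_option linter.all false

namespace CfsgLib.SzModule

open CfsgLib.Lie.Suzuki

variable {F : Type*} [Field F] [CharP F 2] [Fintype F] {m : ℕ}

/-- `t` to the exponent `E`. -/
def tp (E : Ex m) (t : Fˣ) : F := ((t ^ E.val : Fˣ) : F)

variable (hF : Fintype.card F = 2 ^ (2 * m + 1))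

include hF in
theorem units_card : Nat.card Fˣ = qq m := by
  classical
  rw [Nat.card_eq_fintype_card, Fintype.card_units, hF]

include hF in
theorem pow_eq_of_cast {a b : ℕ} (h : (a : Ex m) = b) (t : Fˣ) : t ^ a = t ^ b := by
  classical
  rw [pow_eq_pow_iff_modEq]
  exact ((ZMod.natCast_eq_natCast_iff _ _ _).1 h).of_dvd (units_card hF ▸ orderOf_dvd_natCard t)

include hF in
theorem tp_natCast (k : ℕ) (t : Fˣ) : tp (m := m) (k : Ex m) t = (t : F) ^ k := by
  rw [tp, ← Units.val_pow_eq_pow_val, pow_eq_of_cast hF (ZMod.natCast_zmod_val _) t]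

include hF in
theorem tp_add (a b : Ex m) (t : Fˣ) : tp (a + b) t = tp a t * tp b t := by
  rw [tp, tp, tp, ← Units.val_mul, ← pow_add]
  exact congrArg _ (pow_eq_of_cast hF (by simp) t)

theorem tp_zero (t : Fˣ) : tp (0 : Ex m) t = 1 := by simp [tp]

theorem tp_ne_zero (a : Ex m) (t : Fˣ) : tp a t ≠ 0 := Units.ne_zero _

theorem tp_mul (a : Ex m) (s t : Fˣ) : tp a (s * t) = tp a s * tp a t := by
  rw [tp, tp, tp, mul_pow, Units.val_mul]

include hF in
theorem tp_one (t : Fˣ) : tp (1 : Ex m) t = t := by
  have := tp_natCast hF 1 t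
  simpa using this

include hF in
theorem tp_two_pow (l : ℕ) (t : Fˣ) : tp ((2 : Ex m) ^ l) t = (t : F) ^ 2 ^ l := by
  have := tp_natCast hF (2 ^ l) t
  push_cast at this
  exact this

include hF in
theorem tp_neg (a : Ex m) (t : Fˣ) : tp (-a) t = (tp a t)⁻¹ := by
  refine eq_inv_of_mul_eq_one_left ?_
  rw [← tp_add hF, neg_add_cancel, tp_zero]

include hF in
theorem tp_sub (a b : Ex m) (t : Fˣ) : tp (a - b) t = tp a t / tp b t := by
  rw [sub_eq_add_neg, tp_add hF, tp_neg hF, div_eq_mul_inv]

/-- Substitution of a power. -/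
def sub_pow (E : Ex m) (t : Fˣ) : Fˣ := t ^ E.val

theorem sub_pow_val (E : Ex m) (t : Fˣ) : (sub_pow E t : F) = tp E t := rfl

include hF in
theorem tp_sub_pow (a E : Ex m) (t : Fˣ) : tp a (sub_pow E t) = tp (E * a) t := by
  rw [tp, tp, sub_pow, ← pow_mul]
  exact congrArg _ (pow_eq_of_cast hF (by simp) t)

include hF in
theorem tp_injective {a b : Ex m} (h : ∀ t : Fˣ, tp a t = tp b t) : a = b := by
  classical
  obtain ⟨g, hg⟩ := IsCyclic.exists_generator (α := Fˣ)
  have ho : orderOf g = qq m := by
    rw [orderOf_eq_card_of_forall_mem_zpowers hg, units_card hF]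
  have h1 : g ^ a.val = g ^ b.val := Units.ext (h g)
  rw [pow_eq_pow_iff_modEq, ho] at h1
  rw [← ZMod.natCast_zmod_val a, ← ZMod.natCast_zmod_val b]
  exact (ZMod.natCast_eq_natCast_iff _ _ _).2 h1

include hF in
theorem th_tp (t : Fˣ) : th F m (t : F) = tp (2 * hh m) t := by
  rw [th_apply, hh, ← pow_succ', tp_two_pow hF]

include hF in
/-- Characters with different exponents are independent. -/
theorem coef_eq_zero {ι : Type*} [Fintype ι] (E : ι → Ex m) (hE : Function.Injective E) (c : ι → F)
    (h : ∀ t : Fˣ, ∑ i, c i * tp (E i) t = 0) (i : ι) : c i = 0 := by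
  classical
  let f : ι → Fˣ →* F := fun i =>
    { toFun := fun t => tp (E i) t
      map_one' := by simp [tp]
      map_mul' := fun s t => tp_mul _ s t }
  have hinj : Function.Injective f := fun a b e =>
    hE (tp_injective hF fun t => DFunLike.congr_fun e t)
  have hli := (linearIndependent_monoidHom Fˣ F).comp f hinj
  rw [Fintype.linearIndependent_iff] at hli
  refine hli c ?_ i
  funext t
  rw [Finset.sum_apply]
  show (∑ x, c x * tp (E x) t) = (0 : F)
  exact h t

/-- A function homogeneous of exponent `E`. -/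
def Homog (E : Ex m) (f : F → F) : Prop := ∀ (s : Fˣ) (b : F), f (s * b) = tp E s * f b

theorem Homog.apply {E : Ex m} {f : F → F} (h : Homog E f) (s : Fˣ) : f (s : F) = tp E s * f 1 := by
  simpa using h s 1

theorem Homog.eq_zero {E : Ex m} {f : F → F} (h : Homog E f) (h0 : f 0 = 0) (h1 : f 1 = 0) (b : F) :
    f b = 0 := by
  rcases eq_or_ne b 0 with rfl | hb
  · exact h0
  · have := h.apply (Units.mk0 b hb)
    rw [Units.val_mk0, h1, mul_zero] at this
    exact this

include hF in
/-- An additive homogeneous function has a power of two as exponent. -/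
theorem Homog.additive {E : Ex m} {f : F → F} (h : Homog E f) (ha : ∀ a b, f (a + b) = f a + f b)
    (h1 : f 1 ≠ 0) : ∃ l, l < 2 * m + 1 ∧ E = 2 ^ l := by
  classical
  have h0 : f 0 = 0 := by simpa using ha 0 0
  have hs : ∀ s : Fˣ, f (s : F) / f 1 = tp E s := fun s => by rw [h.apply, mul_div_assoc, div_self h1, mul_one]
  let σ : F →+* F :=
    { toFun := fun x => f x / f 1
      map_one' := div_self h1
      map_mul' := fun x y => by
        rcases eq_or_ne x 0 with rfl | hx
        · simp [h0]
        rcases eq_or_ne y 0 with rfl | hy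
        · simp [h0]
        have := hs (Units.mk0 x hx * Units.mk0 y hy)
        rw [tp_mul, ← hs, ← hs] at this
        simpa using this
      map_zero' := by rw [h0, zero_div]
      map_add' := fun x y => by rw [ha, add_div] }
  letI := ZMod.algebra F 2
  let σa : F →ₐ[ZMod 2] F := { σ with
    commutes' := fun r => by
      show σ (algebraMap (ZMod 2) F r) = _
      exact DFunLike.congr_fun (RingHom.ext_zmod (σ.comp (algebraMap (ZMod 2) F)) (algebraMap (ZMod 2) F)) r }
  obtain ⟨i, hi⟩ := (FiniteField.bijective_frobeniusAlgHom_pow (ZMod 2) F).2 σa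
  refine ⟨(i : ℕ) % (2 * m + 1), Nat.mod_lt _ (by omega), ?_⟩
  rw [← two_pow_mod]
  refine tp_injective hF fun s => ?_
  rw [tp_two_pow hF, ← hs]
  have := DFunLike.congr_fun hi (s : F)
  rw [AlgHom.coe_pow, FiniteField.coe_frobeniusAlgHom, ZMod.card, pow_iterate] at this
  exact this.symm

theorem Homog.additive_zero (hm : 1 ≤ m) {f : F → F} (hF : Fintype.card F = 2 ^ (2 * m + 1))
    (h : Homog (0 : Ex m) f) (ha : ∀ a b, f (a + b) = f a + f b) (b : F) : f b = 0 := by
  refine h.eq_zero (by simpa using ha 0 0) ?_ b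
  by_contra h1
  obtain ⟨l, -, hl⟩ := h.additive hF ha h1
  exact two_pow_ne_zero hm l hl.symm

end CfsgLib.SzModule
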