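import Cfsg.Agent.Lib.SzModule.Basic

/-!
# Irreducible modules in which the element of order five has no fixed point

Such a module is a Galois twist of the natural four-dimensional module.
-/

set_option autoImplicit false
set_option linter.all false
set_option maxHeartbeats 1000000

namespace CfsgLib.SzModule

open CfsgLib.Lie.Suzuki
open scoped Matrix

variable {F : Type*} [Field F] [CharP F 2] [Fintype F] {m : ℕ}
  (hF : Fintype.card F = 2 ^ (2 * m + 1))
variable {V : Type*} [AddCommGroup V] [Module F V] (ρ : Cfsg.Sz F m →* Module.End F V)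

/-- A twisted copy of the natural module. -/
structure NatEmb (φ : F →+* F) (ι : (Fin 4 → F) →+ V) : Prop where
  inj : Function.Injective ι
  smul : ∀ (c : F) (x : Fin 4 → F), ι (c • x) = φ c • ι x
  equiv : ∀ (g : Cfsg.Sz F m) (x : Fin 4 → F), ρ g (ι x) = ι (mat g *ᵥ x)

theorem uSub_pGroup : IsPGroup 2 (uSub hF) := by
  rintro ⟨_, a, b, rfl⟩
  refine ⟨2, Subtype.ext ?_⟩
  rw [SubgroupClass.coe_pow, OneMemClass.coe_one, show (2 : ℕ) ^ 2 = 2 + 2 from rfl, pow_add, pow_two, uS_mul]
  simp only [CharTwo.add_self_eq_zero]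
  rw [uS_mul]
  simp [CharTwo.add_self_eq_zero, uS_one]

/-- Fixed points of the unipotent group on a nonzero space acted on. -/
theorem exists_fixed_uSub {W : Type*} [AddCommGroup W] [Module F W] [Finite W] [Nontrivial W]
    (μ : uSub hF →* Module.End F W) : ∃ w : W, w ≠ 0 ∧ ∀ u, μ u w = w := by
  haveI : Fact (Nat.Prime 2) := ⟨Nat.prime_two⟩
  letI : MulAction (uSub hF) W :=
    { smul := fun u w => μ u w
      one_smul := fun w => by show μ 1 w = w; rw [map_one]; rfl
      mul_smul := fun u u' w => by show μ (u * u') w = μ u (μ u' w); rw [map_mul]; rfl }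
  obtain ⟨w0, hw0⟩ := exists_ne (0 : W)
  have h2 : 2 ∣ Nat.card W := by
    have h := addOrderOf_dvd_natCard w0
    have h' : addOrderOf w0 = 2 := addOrderOf_eq_prime (by rw [two_nsmul, add_self (F := F)]) hw0
    rwa [h'] at h
  obtain ⟨w, hw, hne⟩ := (uSub_pGroup hF).exists_fixed_point_of_prime_dvd_card_of_fixed_point W h2
    (a := 0) (fun u => map_zero (μ u))
  exact ⟨w, fun e => hne e.symm, hw⟩

theorem mulVec_col_uM (a b : F) : uM (th F m) a b *ᵥ (wM *ᵥ pvec (th F m) none) = pvec (th F m) (some (a, b)) := by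
  funext i
  fin_cases i <;> simp [uM, wM, pvec, fQ, Matrix.mulVec, dotProduct, Fin.sum_univ_four]

/-- An irreducible module without fixed points of the element of order five is natural. -/
theorem exists_natEmb [Finite V] [Nontrivial V] (hm : 1 ≤ m) (h5 : Fpf5 hF ρ)
    (hirr : ∀ U : Submodule F V, (∀ g, ∀ u ∈ U, ρ g u ∈ U) → U = ⊥ ∨ U = ⊤) :
    ∃ (φ : F →+* F) (ι : (Fin 4 → F) →+ V), NatEmb ρ φ ι ∧ Function.Surjective ι := by
  classical
  -- a fixed weight vector
  obtain ⟨e0, he0, hfix0⟩ := exists_fixed_uSub hF (ρ.comp (uSub hF).subtype)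
  have hfix0' : ∀ a b, ρ (uS hF a b) e0 = e0 := fun a b => hfix0 ⟨_, a, b, rfl⟩
  obtain ⟨ω, hω⟩ : ∃ ω : Ex m, pr hF ρ (RingHom.id F) ω e0 ≠ 0 := by
    by_contra hall
    push Not at hall
    exact he0 ((sum_pr hF ρ (RingHom.id F) e0).symm.trans (Finset.sum_eq_zero fun ω _ => hall ω))
  obtain ⟨e, he⟩ : ∃ e, e = pr hF ρ (RingHom.id F) ω e0 := ⟨_, rfl⟩
  rw [← he] at hω
  have hfix : ∀ a b, ρ (uS hF a b) e = e := by
    intro a b
    rw [he, pr_apply, map_sum]
    refine Finset.sum_congr rfl fun t _ => ?_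
    rw [map_smul, ← rho_mul]
    congr 1
    rw [show uS hF a b * tS hF t = tS hF t * ((tS hF t⁻¹ * uS hF a b) * tS hF t) by
      rw [map_inv]; group]
    rw [tS_conj_uS, mul_assoc (uS hF _ _), ← map_mul, inv_mul_cancel, map_one, mul_one, rho_mul, hfix0']
  have htor : ∀ t : Fˣ, ρ (tS hF t) e = tp ω t • e := fun t => he ▸ pr_mem hF ρ (RingHom.id F) ω e0 t
  -- the points
  let gp : Option (F × F) → Cfsg.Sz F m := fun o => o.elim 1 fun p => uS hF p.1 p.2 * wS hF
  have hgp : ∀ o, gp o • pt F m none = pt F m o := by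
    rintro (_ | ⟨a, b⟩)
    · exact one_smul _ _
    · show (uS hF a b * wS hF) • _ = _
      rw [mul_smul, wS_none, uS_zero]
  have hgpv : ∀ o, mat (gp o) *ᵥ pvec (th F m) none = pvec (th F m) o := by
    rintro (_ | ⟨a, b⟩)
    · show mat (1 : Cfsg.Sz F m) *ᵥ _ = _
      rw [mat_one, Matrix.one_mulVec]
    · show mat (uS hF a b * wS hF) *ᵥ _ = _
      rw [mat_mul, ← Matrix.mulVec_mulVec]
      exact mulVec_col_uM a b
  obtain ⟨h, hh'⟩ : ∃ h : Option (F × F) → V, ∀ o, h o = ρ (gp o) e := ⟨_, fun _ => rfl⟩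
  have hstep : ∀ g o, ∃ (o' : Option (F × F)) (τ : Fˣ), ρ g (h o) = tp ω τ • h o' ∧
      mat g *ᵥ pvec (th F m) o = (τ : F) • pvec (th F m) o' := by
    intro g o
    obtain ⟨o', ho⟩ := (pt F m).surjective ((g * gp o) • pt F m none)
    obtain ⟨c, d, τ, hst⟩ := stab_inf hF hm (g := (gp o')⁻¹ * (g * gp o)) (by
      rw [mul_smul, ← ho, inv_smul_eq_iff, hgp])
    have hd : g * gp o = gp o' * (uS hF c d * tS hF τ) := by rw [← hst, mul_inv_cancel_left]
    refine ⟨o', τ, ?_, ?_⟩
    · rw [hh', hh', ← rho_mul, hd, rho_mul, rho_mul, htor, map_smul, hfix, map_smul]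
    · rw [← hgpv o, Matrix.mulVec_mulVec, ← mat_mul, hd, mat_mul, ← Matrix.mulVec_mulVec, mat_mul,
        ← Matrix.mulVec_mulVec, mat_tS, tM_none, mat_uS, Matrix.mulVec_smul, uM_none, Matrix.mulVec_smul, hgpv]
  -- the relation from the element of order five
  have hrel : h none + h (some (0, 0)) + h (some (0, 1)) + h (some (1, 0)) + h (some (1, 1)) = 0 := by
    rw [← h5 e, hh', hh', hh', hh', hh', five_two, five_three, five_four, five]
    simp only [rho_mul, hfix]
    show ρ 1 e + ρ (uS hF 0 0 * wS hF) e + ρ (uS hF 0 1 * wS hF) e + ρ (uS hF 1 0 * wS hF) e +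
      ρ (uS hF 1 1 * wS hF) e = _
    simp only [rho_mul, rho_one, uS_one]
    abel
  -- a functional which is one on the lower points
  let Y : Submodule F V := Submodule.span F (Set.range fun p : F × F => h (some p))
  have hY : ∀ u : uSub hF, ∀ y ∈ Y, ρ (u : Cfsg.Sz F m) y ∈ Y := by
    rintro ⟨_, a, b, rfl⟩ y hy
    induction hy using Submodule.span_induction with
    | mem x hx =>
      obtain ⟨⟨c, d⟩, rfl⟩ := hx
      refine Submodule.subset_span ⟨(a + c, b + d + th F m a * c), ?_⟩
      show h _ = ρ (uS hF a b) (h (some (c, d)))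
      rw [hh', hh', ← rho_mul]
      show ρ (uS hF _ _ * wS hF) e = ρ (uS hF a b * (uS hF c d * wS hF)) e
      rw [← mul_assoc (uS hF a b), uS_mul]
    | zero => rw [map_zero]; exact zero_mem _
    | add x y _ _ hx hy => rw [map_add]; exact add_mem hx hy
    | smul c x _ hx => rw [map_smul]; exact Y.smul_mem c hx
  have hv0 : h (some (0, 0)) ≠ 0 := fun h0 => hω (rho_injective ρ (gp (some (0, 0))) (by
    rw [← hh', h0, map_zero]))
  haveI : Nontrivial ↥Y := ⟨⟨⟨_, Submodule.subset_span ⟨(0, 0), rfl⟩⟩, 0, fun h0 => hv0 (congrArg Subtype.val h0)⟩⟩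
  haveI : Finite (Module.Dual F ↥Y) := Finite.of_injective (fun l => (l : ↥Y → F)) DFunLike.coe_injective
  haveI : Nontrivial (Module.Dual F ↥Y) := by
    obtain ⟨y, hy⟩ := exists_ne (0 : ↥Y)
    obtain ⟨l, hl⟩ := Module.Projective.exists_dual_ne_zero F hy
    exact ⟨⟨l, 0, fun e => hl (by rw [e]; rfl)⟩⟩
  obtain ⟨l0, hl0, hlfix⟩ := exists_fixed_uSub hF (W := Module.Dual F ↥Y)
    { toFun := fun u =>
        { toFun := fun l => l.comp ((ρ ((u⁻¹ : uSub hF) : Cfsg.Sz F m)).restrict (hY u⁻¹))
          map_add' := fun l l' => rfl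
          map_smul' := fun c l => rfl }
      map_one' := by
        refine LinearMap.ext fun l => LinearMap.ext fun y => ?_
        show l _ = l y
        congr 1
        exact Subtype.ext (by show ρ _ (y : V) = _; rw [inv_one, OneMemClass.coe_one, rho_one])
      map_mul' := fun u u' => by
        refine LinearMap.ext fun l => LinearMap.ext fun y => ?_
        show l _ = l _
        congr 1
        exact Subtype.ext (by show ρ _ (y : V) = ρ _ (ρ _ (y : V)); rw [mul_inv_rev, Subgroup.coe_mul, rho_mul]) }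
  obtain ⟨l1, hl1⟩ := LinearMap.exists_extend l0
  have hcst : ∀ p : F × F, l1 (h (some p)) = l1 (h (some (0, 0))) := by
    rintro ⟨a, b⟩
    have h1 := DFunLike.congr_fun (hlfix (⟨uS hF a b, a, b, rfl⟩⁻¹ : uSub hF))
      ⟨h (some (0, 0)), Submodule.subset_span ⟨(0, 0), rfl⟩⟩
    have h2 : ∀ (y : ↥Y), l1 (y : V) = l0 y := fun y => DFunLike.congr_fun hl1 y
    rw [h2 ⟨_, Submodule.subset_span ⟨(a, b), rfl⟩⟩, h2 ⟨_, Submodule.subset_span ⟨(0, 0), rfl⟩⟩, ← h1]
    show l0 _ = l0 _
    congr 1
    refine Subtype.ext ?_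
    show h (some (a, b)) = ρ _ (h (some (0, 0)))
    rw [inv_inv, hh', hh', ← rho_mul]
    show ρ (uS hF a b * wS hF) e = ρ (uS hF a b * (uS hF 0 0 * wS hF)) e
    rw [uS_one, one_mul]
  have hne : l1 (h (some (0, 0))) ≠ 0 := by
    intro h0
    refine hl0 (LinearMap.ext fun y => ?_)
    obtain ⟨y, hy⟩ := y
    have : l1 y = 0 := by
      induction hy using Submodule.span_induction with
      | mem x hx => obtain ⟨p, rfl⟩ := hx; rw [hcst, h0]
      | zero => exact map_zero _
      | add x y _ _ hx hy => rw [map_add, hx, hy, add_zero]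
      | smul c x _ hx => rw [map_smul, hx, smul_zero]
    show l0 ⟨y, hy⟩ = (0 : F)
    rw [← this, ← hl1]; rfl
  obtain ⟨l, hl⟩ : ∃ l : V →ₗ[F] F, l = (l1 (h (some (0, 0))))⁻¹ • l1 := ⟨_, rfl⟩
  have hlp : ∀ p, l (h (some p)) = 1 := fun p => by
    rw [hl, LinearMap.smul_apply, hcst p, smul_eq_mul, inv_mul_cancel₀ hne]
  have hl_inf : l (h none) = 0 := by
    have h1 := congrArg l hrel
    simp only [map_add, map_zero, hlp] at h1
    have h2 : (2 : F) = 0 := CharTwo.two_eq_zero
    linear_combination h1 - 2 * h2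
  -- the multiplicative extension of the weight
  obtain ⟨χ, hχ0, hχu⟩ : ∃ χ : F → F, χ 0 = 0 ∧ ∀ t : Fˣ, χ (t : F) = tp ω t :=
    ⟨fun x => if hx : x = 0 then 0 else tp ω (Units.mk0 x hx), dif_pos rfl, fun t => by
      show (if hx : (t : F) = 0 then (0 : F) else tp ω (Units.mk0 _ hx)) = _
      rw [dif_neg t.ne_zero, Units.mk0_val]⟩
  have hkey : ∀ g o, l (ρ g (h o)) = χ ((mat g *ᵥ pvec (th F m) o) 3) := by
    intro g o
    obtain ⟨o', τ, h1, h2⟩ := hstep g o
    rw [h1, h2, map_smul, Pi.smul_apply, smul_eq_mul, smul_eq_mul]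
    rcases o' with _ | p
    · rw [hl_inf, mul_zero, show pvec (th F m) none 3 = 0 from rfl, mul_zero, hχ0]
    · rw [hlp, mul_one, show pvec (th F m) (some p) 3 = 1 from rfl, mul_one, hχu]
  have hχ1 : χ 1 = 1 := by simpa [tp] using hχu 1
  have hχmul : ∀ x y, χ (x * y) = χ x * χ y := by
    intro x y
    rcases eq_or_ne x 0 with rfl | hx
    · simp [hχ0]
    rcases eq_or_ne y 0 with rfl | hy
    · simp [hχ0]
    have := hχu (Units.mk0 x hx * Units.mk0 y hy)
    rw [tp_mul, ← hχu, ← hχu] at this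
    simpa using this
  have hone : ∀ z, χ (z + 1) = χ z + 1 := by
    intro z
    obtain ⟨y, rfl⟩ := (th_bij (F := F) (m := m)).2 z
    have h1 := congrArg (fun x => l (ρ (wS hF * uS hF 0 y) x)) hrel
    simp only [map_add, map_zero, hkey, mat_mul, mat_wS, mat_uS] at h1
    simp [uM, wM, fQ, pvec, Matrix.mulVec, dotProduct, Matrix.mul_apply, Fin.sum_univ_four, hχ1] at h1
    have h2 : (2 : F) = 0 := CharTwo.two_eq_zero
    grind
  let φ : F →+* F :=
    { toFun := χ
      map_one' := hχ1
      map_mul' := hχmul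
      map_zero' := hχ0
      map_add' := fun a b => by
        rcases eq_or_ne b 0 with rfl | hb
        · simp [hχ0]
        rw [show a + b = (a / b + 1) * b by field_simp, hχmul, hone, add_mul, one_mul, ← hχmul,
          div_mul_cancel₀ _ hb] }
  -- the map to the natural module
  let H : (Option (F × F) → F) →ₗ[F] V := Fintype.linearCombination F h
  let P : (Option (F × F) → F) →ₗ[F] (Fin 4 → F) :=
    Fintype.linearCombination F fun o k => φ (pvec (th F m) o k)
  have hH : ∀ c, H c = ∑ o, c o • h o := fun c => rfl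
  have hP : ∀ c k, P c k = ∑ o, c o * φ (pvec (th F m) o k) := fun c k => by
    simp [P, Fintype.linearCombination_apply]
  have hker : LinearMap.ker H ≤ LinearMap.ker P := by
    intro c hc
    rw [LinearMap.mem_ker] at hc
    have hg : ∀ g, ∑ k, φ (mat g 3 k) * P c k = 0 := fun g => by
      have h1 := congrArg (fun x => l (ρ g x)) hc
      simp only [map_zero, hH, map_sum, map_smul, smul_eq_mul, hkey] at h1
      rw [← h1]
      simp only [hP, Finset.mul_sum]
      rw [Finset.sum_comm]
      refine Finset.sum_congr rfl fun o _ => ?_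
      show _ = c o * φ ((mat g *ᵥ pvec (th F m) o) 3)
      rw [Matrix.mulVec, dotProduct, map_sum, Finset.mul_sum]
      exact Finset.sum_congr rfl fun k _ => by rw [map_mul]; ring
    have g1 := hg 1
    have g2 := hg (wS hF)
    have g3 := hg (wS hF * uS hF 1 0)
    have g4 := hg (wS hF * uS hF 0 1)
    simp [mat_one, Fin.sum_univ_four] at g1
    simp [mat_wS, wM, Fin.sum_univ_four] at g2
    simp [mat_mul, mat_wS, mat_uS, uM, wM, fQ, Matrix.mul_apply, Fin.sum_univ_four, g1, g2] at g3 g4
    rw [LinearMap.mem_ker]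
    funext k
    fin_cases k <;> simp
    · exact g2
    · have h2 : (2 : F) = 0 := CharTwo.two_eq_zero
      linear_combination g3 - g4
    · exact g4
    · exact g1
  have hPsurj : Function.Surjective P := by
    intro x
    obtain ⟨cc, hcc⟩ : ∃ cc : Option (F × F) → F, ∀ o, cc o =
        (if o = none then x 0 + x 1 + x 2 else 0) + (if o = some (0, 1) then x 1 else 0) +
          (if o = some (1, 0) then x 2 else 0) + (if o = some (0, 0) then x 3 + x 1 + x 2 else 0) := ⟨_, fun _ => rfl⟩
    refine ⟨cc, funext fun k => ?_⟩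
    rw [hP]
    simp only [hcc, add_mul, ite_mul, zero_mul, Finset.sum_add_distrib, Finset.sum_ite_eq', Finset.mem_univ, if_true]
    have h2 : (2 : F) = 0 := CharTwo.two_eq_zero
    fin_cases k <;> simp [pvec, fQ] <;> grind
  have hHtop : LinearMap.range H = ⊤ := by
    refine (hirr _ fun g u hu => ?_).resolve_left fun hb => ?_
    · obtain ⟨c, rfl⟩ := hu
      rw [hH, map_sum]
      refine Submodule.sum_mem _ fun o _ => ?_
      rw [map_smul]
      refine Submodule.smul_mem _ _ ?_
      obtain ⟨o', τ, h1, -⟩ := hstep g o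
      rw [h1]
      refine Submodule.smul_mem _ _ ⟨Pi.single o' 1, ?_⟩
      simp [H, Fintype.linearCombination_apply_single]
    · apply hv0
      have : h (some (0, 0)) ∈ LinearMap.range H :=
        ⟨Pi.single (some (0, 0)) 1, by simp [H, Fintype.linearCombination_apply_single]⟩
      rwa [hb] at this
  have hHs : Function.Surjective H := LinearMap.range_eq_top.1 hHtop
  let Q : V →ₗ[F] (Fin 4 → F) :=
    ((LinearMap.ker H).liftQ P hker).comp (LinearMap.quotKerEquivOfSurjective H hHs).symm.toLinearMap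
  have hQ : ∀ c, Q (H c) = P c := fun c => by
    show (LinearMap.ker H).liftQ P hker ((LinearMap.quotKerEquivOfSurjective H hHs).symm (H c)) = P c
    rw [show (LinearMap.quotKerEquivOfSurjective H hHs).symm (H c) = Submodule.Quotient.mk c from
      (LinearMap.quotKerEquivOfSurjective H hHs).symm_apply_eq.2 rfl, Submodule.liftQ_apply]
  have hQs : Function.Surjective Q := fun x => by
    obtain ⟨c, rfl⟩ := hPsurj x
    exact ⟨H c, hQ c⟩
  have hQh : ∀ o, Q (h o) = fun k => φ (pvec (th F m) o k) := fun o => by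
    have := hQ (Pi.single o 1)
    simpa [H, P, Fintype.linearCombination_apply_single] using this
  have hQeq : ∀ g v, Q (ρ g v) = (mat g).map φ *ᵥ Q v := by
    intro g v
    obtain ⟨c, rfl⟩ := hHs v
    rw [hH, map_sum, map_sum, map_sum, Matrix.mulVec_sum]
    refine Finset.sum_congr rfl fun o _ => ?_
    rw [map_smul, map_smul, map_smul, Matrix.mulVec_smul]
    congr 1
    obtain ⟨o', τ, h1, h2⟩ := hstep g o
    rw [h1, map_smul, hQh, hQh, ← hχu]
    funext k
    show φ (τ : F) * φ (pvec (th F m) o' k) = _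
    rw [← map_mul, ← smul_eq_mul, ← Pi.smul_apply, ← h2, Matrix.mulVec, dotProduct, map_sum]
    exact Finset.sum_congr rfl fun j _ => map_mul φ _ _
  have hQi : Function.Injective Q := by
    rw [← LinearMap.ker_eq_bot]
    refine (hirr _ fun g u hu => ?_).resolve_right fun ht => ?_
    · rw [LinearMap.mem_ker] at hu ⊢
      rw [hQeq, hu, Matrix.mulVec_zero]
    · obtain ⟨v, hv⟩ := hQs (fun _ => 1)
      have : v ∈ LinearMap.ker Q := ht ▸ Submodule.mem_top
      rw [LinearMap.mem_ker, hv] at this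
      exact one_ne_zero (congrFun this 0)
  have hφb : Function.Bijective φ := ⟨φ.injective, Finite.injective_iff_surjective.1 φ.injective⟩
  let E := LinearEquiv.ofBijective Q ⟨hQi, hQs⟩
  let ι : (Fin 4 → F) →+ V :=
    { toFun := fun x => E.symm fun k => φ (x k)
      map_zero' := by
        show E.symm _ = 0
        rw [LinearEquiv.symm_apply_eq, map_zero]; funext k; exact map_zero φ
      map_add' := fun x y => by
        show E.symm _ = E.symm _ + E.symm _
        rw [← map_add]; congr 1; funext k; exact map_add φ _ _ }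
  have hEι : ∀ x, Q (ι x) = fun k => φ (x k) := fun x => E.apply_symm_apply _
  refine ⟨φ, ι, ⟨fun x y hxy => funext fun k => hφb.1 ?_, fun c x => hQi ?_, fun g x => hQi ?_⟩, fun v => ?_⟩
  · have := congrArg Q hxy
    rw [hEι, hEι] at this
    exact congrFun this k
  · rw [hEι, map_smul, hEι]
    funext k
    exact map_mul φ c (x k)
  · rw [hQeq, hEι, hEι]
    funext k
    show ((mat g).map φ *ᵥ fun k => φ (x k)) k = φ ((mat g *ᵥ x) k)
    simp [Matrix.mulVec, dotProduct, map_sum, map_mul]
  · choose w hw using hφb.2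
    exact ⟨fun k => w (Q v k), hQi (by rw [hEι]; funext k; exact hw _)⟩

end CfsgLib.SzModule
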