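import Cfsg.Agent.Lib.SzModule.Semisimple

/-!
# Equivariant pairings

An equivariant bilinear map between modules without fixed points of the element of order five vanishes.
-/

set_option autoImplicit false
set_option linter.all false
set_option maxHeartbeats 800000

namespace CfsgLib.SzModule

open CfsgLib.Lie.Suzuki
open scoped Matrix

variable {F : Type*} [Field F] [CharP F 2] [Fintype F] {m : ℕ}
  (hF : Fintype.card F = 2 ^ (2 * m + 1))

include hF in
theorem th_eq_self {x : F} (h : th F m x = x) : x = 0 ∨ x = 1 := by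
  have h1 := th_tits hF x
  rw [h, h] at h1
  rcases eq_or_ne x 0 with h0 | h0
  · exact Or.inl h0
  · exact Or.inr (mul_left_cancel₀ h0 (by rw [mul_one, ← pow_two, ← h1]))

include hF in
theorem twist_id (φ : F →+* F) : ∃ j : ℕ, ∀ x : F, φ x = x ^ 2 ^ j :=
  exists_twist hF (RingHom.id F) φ

section Sep

variable {V : Type*} [AddCommGroup V] [Module F V] [Finite V] {ρ : Cfsg.Sz F m →* Module.End F V}
  (hm : 1 ≤ m) (h5 : Fpf5 hF ρ)

include hm h5 in
/-- A fixed weight vector has a power of two as weight. -/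
theorem fixed_weight {ω : Ex m} {v : V} (hv : v ∈ Eig hF ρ (RingHom.id F) ω)
    (hfix : ∀ a b, ρ (uS hF a b) v = v) (hv0 : v ≠ 0) : ∃ l : ℕ, ω = 2 ^ l := by
  by_contra hne
  refine hv0 (natProj_sep hF hm h5 v fun φ π hπ => ?_)
  obtain ⟨j, hj⟩ := twist_id hF φ
  have hf : ∀ a b, uD m a b (π v) = 0 := fun a b => by
    rw [← hπ.D_uS hF, D_apply, hfix, add_self (F := F), map_zero]
  have h3 : π v 3 = 0 := by simpa [uD] using congrFun (hf 1 0) 2
  have h2 : π v 2 = 0 := by simpa [uD, h3] using congrFun (hf 1 0) 1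
  have h1 : π v 1 = 0 := by simpa [uD, h3, h2] using congrFun (hf 1 0) 0
  have h0 : π v 0 = 0 := by
    by_contra h0
    refine hne ⟨j, ?_⟩
    refine tp_injective hF fun t => ?_
    obtain ⟨k, hk⟩ : ∃ k : F, φ k = tp ω t := (hom_bij φ).2 _
    have e1 := congrArg π (hv t)
    rw [RingHom.id_apply, ← hk, hπ.smul, hπ.equiv, mat_tor] at e1
    have e2 := congrFun e1 0
    simp [wt, tp_one hF, h0] at e2
    rw [← hk, ← e2, hj, tp_two_pow hF]
  funext k
  fin_cases k <;> assumption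

include hm h5 in
/-- There is no weight zero. -/
theorem weight_zero {v : V} (hv : v ∈ Eig hF ρ (RingHom.id F) 0) : v = 0 := by
  refine natProj_sep hF hm h5 v fun φ π hπ => ?_
  funext k
  by_contra hk
  have hw : wt m k = 0 := by
    refine tp_injective hF fun t => ?_
    have e1 := congrFun (congrArg π (hv t)) k
    rw [RingHom.id_apply, tp_zero, one_smul, hπ.equiv, mat_tor] at e1
    rw [tp_zero]
    exact mul_right_cancel₀ hk (e1.trans (one_mul _).symm)
  have h1 : (2 : Ex m) ^ (m + 1) ≠ 2 ^ 0 := two_pow_ne hm (by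
    rw [Nat.mod_eq_of_lt (by omega), Nat.zero_mod]; omega)
  rw [pow_succ', ← hh, pow_zero] at h1
  have h2 := one_ne_zero' (m := m) hm
  fin_cases k <;> simp [wt] at hw <;> first
    | exact h2 hw
    | exact h1 (sub_eq_zero.1 hw) | exact h1 (sub_eq_zero.1 hw).symm

include hm h5 in
/-- The fixed spaces of two opposite centres meet trivially. -/
theorem zfix_disjoint {v : V} (hv : ρ (uS hF 0 1) v = v) (hw : ρ (uS hF 0 1) (ρ (wS hF) v) = ρ (wS hF) v) :
    v = 0 := by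
  refine natProj_sep hF hm h5 v fun φ π hπ => ?_
  have hf : ∀ x, ρ (uS hF 0 1) x = x → π x 2 = 0 ∧ π x 3 = 0 := fun x hx => by
    have e : uD m 0 1 (π x) = 0 := by rw [← hπ.D_uS hF, D_apply, hx, add_self (F := F), map_zero]
    have e3 : π x 3 = 0 := by simpa [uD] using congrFun e 1
    exact ⟨by simpa [uD, e3, fQ] using congrFun e 0, e3⟩
  obtain ⟨h2, h3⟩ := hf v hv
  obtain ⟨h1, h0⟩ := hf _ hw
  rw [hπ.equiv, mat_wS] at h0 h1
  simp [wM, Matrix.mulVec, dotProduct, Fin.sum_univ_four] at h0 h1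
  funext k
  fin_cases k <;> assumption

end Sep

section Pairing

variable {V₁ V₂ V₃ : Type*} [AddCommGroup V₁] [Module F V₁] [AddCommGroup V₂] [Module F V₂]
  [AddCommGroup V₃] [Module F V₃] [Finite V₃]
  {ρ₁ : Cfsg.Sz F m →* Module.End F V₁} {ρ₂ : Cfsg.Sz F m →* Module.End F V₂}
  {ρ₃ : Cfsg.Sz F m →* Module.End F V₃} (β : V₁ →ₗ[F] V₂ →ₗ[F] V₃)

include hF in
/-- The two top values on natural submodules of different twists. -/
theorem top_zero (hm : 1 ≤ m) (h5 : Fpf5 hF ρ₃) (hβ : ∀ g x y, β (ρ₁ g x) (ρ₂ g y) = ρ₃ g (β x y))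
    {φ φ' : F →+* F} {ι : (Fin 4 → F) →+ V₁} {κ : (Fin 4 → F) →+ V₂} (hι : NatEmb ρ₁ φ ι)
    (hκ : NatEmb ρ₂ φ' κ) {i j : ℕ} (hi : ∀ x, φ x = x ^ 2 ^ i) (hj : ∀ x, φ' x = x ^ 2 ^ j)
    (hij : i % (2 * m + 1) ≠ j % (2 * m + 1)) :
    β (ι ![1, 0, 0, 0]) (κ ![1, 0, 0, 0]) = 0 ∧ β (ι ![1, 0, 0, 0]) (κ ![0, 1, 0, 0]) = 0 := by
  have hsum : (2 : Ex m) ^ (2 * m) + 2 ^ (2 * m) = 1 := by rw [← two_mul, ← pow_succ', two_pow_n]
  have hX : β (ι ![1, 0, 0, 0]) (κ ![1, 0, 0, 0]) = 0 := by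
    by_contra hne
    refine (fixed_weight hF hm h5 (ω := (2 : Ex m) ^ i + 2 ^ j) (v := β (ι ![1, 0, 0, 0]) (κ ![1, 0, 0, 0]))
      (fun t => ?_) (fun a b => ?_) hne).elim fun l hl => ?_
    rotate_left 2
    · have key : (2 : Ex m) ^ i + 2 ^ j = 2 ^ (l + 2 * m) + 2 ^ (l + 2 * m) := by
        rw [hl, pow_add]; linear_combination -(2 : Ex m) ^ l * hsum
      rcases two_pows_eq hm key with ⟨h1, h2⟩ | ⟨h1, h2⟩ <;> exact hij (h1.trans h2.symm)
    · rw [← hβ, hι.tor hF, hκ.tor hF, RingHom.id_apply, tp_add hF, tp_two_pow hF, tp_two_pow hF,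
        show (fun k => tp (wt m k) t * (![1, 0, 0, 0] : Fin 4 → F) k) = (t : F) • ![1, 0, 0, 0] by
          funext k; fin_cases k <;> simp [wt, tp_one hF],
        hι.smul, hκ.smul, map_smul, map_smul, LinearMap.smul_apply, smul_smul, hi, hj, mul_comm]
    · rw [← hβ, hι.equiv, hκ.equiv, mat_uS,
        show uM (th F m) a b *ᵥ ![1, 0, 0, 0] = ![1, 0, 0, 0] by
          funext k; fin_cases k <;> simp [uM, Matrix.mulVec, dotProduct, Fin.sum_univ_four]]
  refine ⟨hX, ?_⟩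
  by_contra hne
  refine (fixed_weight hF hm h5 (ω := (2 : Ex m) ^ i + (2 * hh m - 1) * 2 ^ j)
    (v := β (ι ![1, 0, 0, 0]) (κ ![0, 1, 0, 0])) (fun t => ?_) (fun a b => ?_) hne).elim fun l hl => ?_
  rotate_left 2
  · have key : (2 : Ex m) ^ i + 2 ^ (j + m + 1) = 2 ^ l + 2 ^ j := by
      rw [← hl, add_assoc j, pow_add, pow_succ' 2 m, ← hh]; ring
    rcases two_pows_eq hm key with ⟨h1, h2⟩ | ⟨h1, h2⟩
    · have h3 : (2 : Ex m) ^ (m + 1) = 2 ^ 0 := by
        have h4 : (2 : Ex m) ^ (j + m + 1) = 2 ^ j := by rw [two_pow_mod, h2, ← two_pow_mod]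
        rw [add_assoc, pow_add] at h4
        rw [pow_zero]
        exact ((isUnit_two (m := m)).pow j).mul_left_cancel (h4.trans (mul_one _).symm)
      exact two_pow_ne hm (by rw [Nat.mod_eq_of_lt (by omega), Nat.zero_mod]; omega) h3
    · exact hij h1
  · rw [← hβ, hι.tor hF, hκ.tor hF, RingHom.id_apply, tp_add hF, tp_two_pow hF, ← tp_sub_pow hF,
      tp_two_pow hF, sub_pow_val,
      show (fun k => tp (wt m k) t * (![1, 0, 0, 0] : Fin 4 → F) k) = (t : F) • ![1, 0, 0, 0] by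
        funext k; fin_cases k <;> simp [wt, tp_one hF],
      show (fun k => tp (wt m k) t * (![0, 1, 0, 0] : Fin 4 → F) k) = tp (2 * hh m - 1) t • ![0, 1, 0, 0] by
        funext k; fin_cases k <;> simp [wt],
      hι.smul, hκ.smul, map_smul, map_smul, LinearMap.smul_apply, smul_smul, hi, hj, mul_comm]
  · rw [← hβ, hι.equiv, hκ.equiv, mat_uS,
      show uM (th F m) a b *ᵥ ![1, 0, 0, 0] = ![1, 0, 0, 0] by
        funext k; fin_cases k <;> simp [uM, Matrix.mulVec, dotProduct, Fin.sum_univ_four],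
      show uM (th F m) a b *ᵥ ![0, 1, 0, 0] = a • ![1, 0, 0, 0] + ![0, 1, 0, 0] by
        funext k; fin_cases k <;> simp [uM, Matrix.mulVec, dotProduct, Fin.sum_univ_four],
      map_add, hκ.smul, map_add, map_smul, hX, smul_zero, zero_add]

include hF in
/-- A pairing vanishes on natural submodules. -/
theorem nat_zero (hm : 1 ≤ m) (h5 : Fpf5 hF ρ₃) (hβ : ∀ g x y, β (ρ₁ g x) (ρ₂ g y) = ρ₃ g (β x y))
    {φ φ' : F →+* F} {ι : (Fin 4 → F) →+ V₁} {κ : (Fin 4 → F) →+ V₂} (hι : NatEmb ρ₁ φ ι)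
    (hκ : NatEmb ρ₂ φ' κ) (x y : Fin 4 → F) : β (ι x) (κ y) = 0 := by
  classical
  obtain ⟨i, hi⟩ := twist_id hF φ
  obtain ⟨j, hj⟩ := twist_id hF φ'
  obtain ⟨N, hN⟩ : ∃ N : (Fin 4 → F) → (Fin 4 → F) → V₃, ∀ x y, N x y = β (ι x) (κ y) := ⟨_, fun _ _ => rfl⟩
  rw [← hN]
  have hNg : ∀ g x y, ρ₃ g (N x y) = N (mat g *ᵥ x) (mat g *ᵥ y) := fun g x y => by
    rw [hN, hN, ← hι.equiv, ← hκ.equiv, hβ]
  have hadd : ∀ x y y', N x (y + y') = N x y + N x y' := fun x y y' => by rw [hN, hN, hN, map_add, map_add]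
  have hadd' : ∀ x x' y, N (x + x') y = N x y + N x' y := fun x x' y => by
    rw [hN, hN, hN, map_add, map_add, LinearMap.add_apply]
  have hsm : ∀ (c : F) x y, N x (c • y) = φ' c • N x y := fun c x y => by rw [hN, hN, hκ.smul, map_smul]
  have hsm' : ∀ (c : F) x y, N (c • x) y = φ c • N x y := fun c x y => by
    rw [hN, hN, hι.smul, map_smul, LinearMap.smul_apply]
  obtain ⟨e0, h0⟩ : ∃ e : Fin 4 → F, e = ![1, 0, 0, 0] := ⟨_, rfl⟩
  obtain ⟨e1, h1⟩ : ∃ e : Fin 4 → F, e = ![0, 1, 0, 0] := ⟨_, rfl⟩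
  obtain ⟨e2, h2⟩ : ∃ e : Fin 4 → F, e = ![0, 0, 1, 0] := ⟨_, rfl⟩
  obtain ⟨e3, h3⟩ : ∃ e : Fin 4 → F, e = ![0, 0, 0, 1] := ⟨_, rfl⟩
  have hu0 : ∀ a b, mat (uS hF a b) *ᵥ e0 = e0 := fun a b => by
    rw [mat_uS, h0]; funext k; fin_cases k <;> simp [uM, Matrix.mulVec, dotProduct, Fin.sum_univ_four]
  have hz3 : ∀ b, mat (uS hF 0 b) *ᵥ e3 = th F m b • e0 + b • e1 + e3 := fun b => by
    rw [mat_uS, h0, h1, h3]
    funext k; fin_cases k <;> simp [uM, fQ, Matrix.mulVec, dotProduct, Fin.sum_univ_four]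
  have hf3 : mat (uS hF 1 0) *ᵥ e3 = e0 + e2 + e3 := by
    rw [mat_uS, h0, h2, h3]
    funext k; fin_cases k <;> simp [uM, fQ, Matrix.mulVec, dotProduct, Fin.sum_univ_four]
  have hw0 : mat (wS hF) *ᵥ e0 = e3 := by
    rw [mat_wS, h0, h3]; funext k; fin_cases k <;> simp [wM, Matrix.mulVec, dotProduct, Fin.sum_univ_four]
  have hw3 : mat (wS hF) *ᵥ e3 = e0 := by
    rw [mat_wS, h0, h3]; funext k; fin_cases k <;> simp [wM, Matrix.mulVec, dotProduct, Fin.sum_univ_four]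
  have hμ : N e0 e3 = 0 ∧ N e0 e0 = 0 ∧ N e0 e1 = 0 := by
    by_cases hij : i % (2 * m + 1) = j % (2 * m + 1)
    · have hμ0 : N e0 e3 = 0 := by
        refine weight_zero hF hm h5 fun t => ?_
        rw [hNg, mat_tor, mat_tor, RingHom.id_apply, tp_zero, one_smul,
          show (fun k => tp (wt m k) t * e0 k) = (t : F) • e0 by
            funext k; fin_cases k <;> simp [h0, wt, tp_one hF],
          show (fun k => tp (wt m k) t * e3 k) = tp (-1 : Ex m) t • e3 by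
            funext k; fin_cases k <;> simp [h3, wt],
          hsm, hsm', smul_smul, hi, hj, ← tp_two_pow hF i, ← sub_pow_val, ← tp_two_pow hF j, tp_sub_pow hF,
          ← tp_add hF, show (-1 : Ex m) * 2 ^ j + 2 ^ i = 0 by rw [two_pow_mod i, hij, ← two_pow_mod]; ring,
          tp_zero, one_smul]
      have hz : ∀ b, φ' (th F m b) • N e0 e0 + φ' b • N e0 e1 = 0 := fun b => by
        have := hNg (uS hF 0 b) e0 e3
        rw [hμ0, map_zero, hu0, hz3, hadd, hadd, hsm, hsm, hμ0, add_zero] at this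
        exact this.symm
      obtain ⟨nf, hnf0, hnf1⟩ := exists_ne (F := F) hm hF
      have ha := hz 1
      rw [map_one, map_one, one_smul, one_smul] at ha
      have hb := hz nf
      rw [eq_of_add_eq_zero (F := F) ha, ← add_smul, smul_eq_zero] at hb
      have hY : N e0 e1 = 0 := by
        refine hb.resolve_left fun e => ?_
        rw [← map_add] at e
        have e' := (map_eq_zero φ').1 e
        rcases th_eq_self hF (CharTwo.add_eq_zero.1 e') with h | h
        · exact hnf0 h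
        · exact hnf1 h
      rw [hY, add_zero] at ha
      exact ⟨hμ0, ha, hY⟩
    · obtain ⟨hX, hY⟩ := top_zero hF β hm h5 hβ hι hκ hi hj hij
      obtain ⟨-, hY'⟩ := top_zero hF β.flip hm h5 (fun g y x => hβ g x y) hκ hι hj hi (Ne.symm hij)
      rw [LinearMap.flip_apply, ← hN, ← h0, ← h1] at hY'
      rw [← hN, ← h0] at hX
      rw [← hN, ← h0, ← h1] at hY
      refine ⟨zfix_disjoint hF hm h5 ?_ ?_, hX, hY⟩
      · rw [hNg, hu0, hz3, hadd, hadd, hsm, hsm, hX, hY, smul_zero, smul_zero, zero_add, zero_add]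
      · rw [hNg (wS hF), hw0, hw3, hNg, hu0, hz3, hadd', hadd', hsm', hsm', hX, hY', smul_zero, smul_zero, zero_add,
          zero_add]
  obtain ⟨hμ0, hX, hY⟩ := hμ
  have hZ : N e0 e2 = 0 := by
    have := hNg (uS hF 1 0) e0 e3
    rw [hμ0, map_zero, hu0, hf3, hadd, hadd, hX, hμ0, zero_add, add_zero] at this
    exact this.symm
  have hall : ∀ y, N e0 y = 0 := fun y => by
    have hy : y = y 0 • e0 + y 1 • e1 + y 2 • e2 + y 3 • e3 := by
      funext k; fin_cases k <;> simp [h0, h1, h2, h3]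
    rw [hy, hadd, hadd, hadd, hsm, hsm, hsm, hsm, hX, hY, hZ, hμ0]
    simp
  let P : Submodule F (Fin 4 → F) :=
    { carrier := {x | ∀ y, N x y = 0}
      zero_mem' := fun y => by rw [hN, map_zero, map_zero, LinearMap.zero_apply]
      add_mem' := fun {a b} ha hb y => by rw [hadd', ha y, hb y, add_zero]
      smul_mem' := fun c a ha y => by rw [hsm', ha y, smul_zero] }
  have hP := nat_irred hF P (fun g x hx y => by
    have := hNg g x (mat g⁻¹ *ᵥ y)
    rw [hx, map_zero, Matrix.mulVec_mulVec, ← mat_mul, mul_inv_cancel, mat_one, Matrix.one_mulVec] at this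
    exact this.symm) (fun hb => by
    have h' : e0 ∈ P := hall
    rw [hb, Submodule.mem_bot, h0] at h'
    simpa using congrFun h' 0)
  exact (hP ▸ Submodule.mem_top : x ∈ P) y

include hF in
/-- Equivariant pairings vanish. -/
theorem pairing_eq_zero [Finite V₁] [Finite V₂] (hm : 1 ≤ m) (h51 : Fpf5 hF ρ₁) (h52 : Fpf5 hF ρ₂) (h53 : Fpf5 hF ρ₃)
    (hβ : ∀ g x y, β (ρ₁ g x) (ρ₂ g y) = ρ₃ g (β x y)) : β = 0 := by
  have h1 : LinearMap.ker β = ⊤ := by
    refine natEmb_span hF hm _ ρ₁ le_rfl h51 _ fun φ ι hι x => ?_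
    rw [LinearMap.mem_ker]
    have h2 : LinearMap.ker (β (ι x)) = ⊤ := by
      refine natEmb_span hF hm _ ρ₂ le_rfl h52 _ fun φ' κ hκ y => ?_
      rw [LinearMap.mem_ker]
      exact nat_zero hF β hm h53 hβ hι hκ x y
    exact LinearMap.ker_eq_top.1 h2
  exact LinearMap.ker_eq_top.1 h1

end Pairing

end CfsgLib.SzModule
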