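import Cfsg.Agent.Lib.SzModule.Lift

/-!
# Natural quotients, the invariant form, dual modules

* `NatProj`: a semilinear equivariant map to the natural module
* `NatExt`: a natural module by a natural module, and its dual
* `NatExt.exists_fixed`: the fixed weight vector of the quotient lifts
-/

set_option autoImplicit false
set_option linter.all false
set_option maxHeartbeats 800000

namespace CfsgLib.SzModule

open CfsgLib.Lie.Suzuki
open scoped Matrix

variable {F : Type*} [Field F] [CharP F 2] [Fintype F] {m : ℕ}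
  (hF : Fintype.card F = 2 ^ (2 * m + 1))
variable {V : Type*} [AddCommGroup V] [Module F V] (ρ : Cfsg.Sz F m →* Module.End F V)

/-- A semilinear equivariant map to the natural module. -/
structure NatProj (φ : F →+* F) (π : V →+ (Fin 4 → F)) : Prop where
  smul : ∀ (c : F) (v : V), π (φ c • v) = c • π v
  equiv : ∀ (g : Cfsg.Sz F m) (v : V), π (ρ g v) = mat g *ᵥ π v

/-- A natural module by a natural module. -/
structure NatExt (φ : F →+* F) (ι : (Fin 4 → F) →+ V) (φ' : F →+* F) (π : V →+ (Fin 4 → F)) : Prop where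
  emb : NatEmb ρ φ ι
  proj : NatProj ρ φ' π
  surj : Function.Surjective π
  ker : ∀ v, π v = 0 ↔ v ∈ ι.range

theorem hom_bij (φ : F →+* F) : Function.Bijective φ :=
  ⟨φ.injective, Finite.injective_iff_surjective.1 φ.injective⟩

include hF in
/-- Two endomorphisms differ by a power of two. -/
theorem exists_twist (φ φ' : F →+* F) : ∃ j : ℕ, ∀ x : F, φ' x = φ (x ^ 2 ^ j) := by
  classical
  let E := RingEquiv.ofBijective φ (hom_bij φ)
  let σ : F →+* F := (E.symm : F →+* F).comp φ'
  letI := ZMod.algebra F 2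
  let σa : F →ₐ[ZMod 2] F := { σ with
    commutes' := fun r => by
      show σ (algebraMap (ZMod 2) F r) = _
      exact DFunLike.congr_fun (RingHom.ext_zmod (σ.comp (algebraMap (ZMod 2) F)) (algebraMap (ZMod 2) F)) r }
  obtain ⟨i, hi⟩ := (FiniteField.bijective_frobeniusAlgHom_pow (ZMod 2) F).2 σa
  refine ⟨(i : ℕ), fun x => ?_⟩
  have h1 := DFunLike.congr_fun hi x
  rw [AlgHom.coe_pow, FiniteField.coe_frobeniusAlgHom, ZMod.card, pow_iterate] at h1
  have h2 : x ^ 2 ^ (i : ℕ) = E.symm (φ' x) := h1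
  rw [h2]
  exact (E.apply_symm_apply _).symm

theorem mat_tor (t : Fˣ) (x : Fin 4 → F) :
    mat (tS hF t) *ᵥ x = fun k => tp (wt m k) t * x k := by
  rw [mat_tS]
  have h0 : ((t : F)) = tp (1 : Ex m) t := (tp_one hF t).symm
  funext k
  fin_cases k <;>
    simp [tM, wt, Matrix.mulVec, dotProduct, Fin.sum_univ_four, tp_sub hF, tp_neg hF, th_tp hF, tp_one hF]

theorem mat_D (a b : F) (x : Fin 4 → F) : mat (uS hF a b) *ᵥ x + x = uD m a b x := by
  rw [mat_uS]
  have h2 : (2 : F) = 0 := CharTwo.two_eq_zero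
  funext k
  fin_cases k <;> simp [uM, uD, Matrix.mulVec, dotProduct, Fin.sum_univ_four] <;> grind

theorem wt_injective (hm : 1 ≤ m) : Function.Injective (wt m) := by
  have h1 : (2 : Ex m) ^ (m + 1) ≠ 2 ^ 1 := two_pow_ne hm (by
    rw [Nat.mod_eq_of_lt (by omega), Nat.mod_eq_of_lt (by omega)]; omega)
  have h2 : (2 : Ex m) ^ 1 ≠ 0 := two_pow_ne_zero hm 1
  have h3 : (2 : Ex m) ^ (m + 1) ≠ 0 := two_pow_ne_zero hm _
  have h4 : (2 : Ex m) ^ (m + 1) ≠ 2 ^ 0 := two_pow_ne hm (by
    rw [Nat.mod_eq_of_lt (by omega), Nat.zero_mod]; omega)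
  have h5 : (2 : Ex m) ^ (m + 1) = 2 * hh m := by rw [hh, pow_succ']
  rw [h5] at h1 h3 h4
  rw [pow_zero] at h4
  rw [pow_one] at h1 h2
  have e2 : IsUnit (2 : Ex m) := isUnit_two
  intro i k h
  fin_cases i <;> fin_cases k <;> first
    | rfl
    | (exfalso; simp [wt] at h; first
        | exact h1 (by linear_combination h) | exact h1 (by linear_combination -h)
        | exact h2 (by linear_combination h) | exact h2 (by linear_combination -h)
        | exact h3 (by linear_combination h) | exact h3 (by linear_combination -h)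
        | exact h4 (by linear_combination h) | exact h4 (by linear_combination -h)
        | exact h4 (e2.mul_left_cancel (by linear_combination h))
        | exact h4 (e2.mul_left_cancel (by linear_combination -h)))

section
variable {ρ} {φ : F →+* F} {π : V →+ (Fin 4 → F)}

theorem NatProj.pr (hπ : NatProj ρ φ π) (ω : Ex m) (v : V) :
    π (pr hF ρ φ ω v) = fun k => if wt m k = ω then π v k else 0 := by
  classical
  rw [pr_apply, map_sum]
  funext k
  rw [Finset.sum_apply]
  simp only [hπ.smul, hπ.equiv, mat_tor, Pi.smul_apply, smul_eq_mul]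
  simp only [← mul_assoc, ← tp_add hF, ← Finset.sum_mul, sum_tp hF]
  by_cases h : wt m k = ω
  · rw [if_pos h, if_pos (by rw [h, neg_add_cancel]), one_mul]
  · rw [if_neg h, if_neg (fun e => h (eq_of_sub_eq_zero (by rw [sub_eq_neg_add]; exact e))), zero_mul]

theorem NatProj.D_uS (hπ : NatProj ρ φ π) (a b : F) (v : V) : π (D ρ (uS hF a b) v) = uD m a b (π v) := by
  rw [D_apply, map_add, hπ.equiv, mat_D]

include hF in
theorem eig_twist {φ' : F →+* F} {j : ℕ} (hj : ∀ x, φ' x = φ (x ^ 2 ^ j)) {ω : Ex m} {v : V}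
    (hv : v ∈ Eig hF ρ φ' ω) : v ∈ Eig hF ρ φ (ω * 2 ^ j) := by
  intro t
  rw [hv t, hj, ← sub_pow_val, ← tp_two_pow hF j, tp_sub_pow hF]

end

/-- The invariant form. -/
def pair (x y : Fin 4 → F) : F := ∑ k, x k * y (Fin.rev k)

theorem pair_apply (x y : Fin 4 → F) : pair x y = x 0 * y 3 + x 1 * y 2 + x 2 * y 1 + x 3 * y 0 := by
  simp [pair, Fin.sum_univ_four]

theorem pair_add_right (x y z : Fin 4 → F) : pair x (y + z) = pair x y + pair x z := by
  simp only [pair_apply, Pi.add_apply]; ring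

theorem pair_add_left (x y z : Fin 4 → F) : pair (x + y) z = pair x z + pair y z := by
  simp only [pair_apply, Pi.add_apply]; ring

theorem pair_smul_right (c : F) (x y : Fin 4 → F) : pair x (c • y) = c * pair x y := by
  simp only [pair_apply, Pi.smul_apply, smul_eq_mul]; ring

theorem pair_smul_left (c : F) (x y : Fin 4 → F) : pair (c • x) y = c * pair x y := by
  simp only [pair_apply, Pi.smul_apply, smul_eq_mul]; ring

theorem pair_single (x : Fin 4 → F) (k : Fin 4) : pair x (Pi.single (Fin.rev k) 1) = x k := by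
  rw [pair_apply]; fin_cases k <;> simp

include hF in
theorem pair_mat (hm : 1 ≤ m) (g : Cfsg.Sz F m) : ∀ x y, pair (mat g *ᵥ x) (mat g *ᵥ y) = pair x y := by
  let S : Subgroup (Cfsg.Sz F m) :=
    { carrier := {g | ∀ x y, pair (mat g *ᵥ x) (mat g *ᵥ y) = pair x y}
      one_mem' := fun x y => by rw [mat_one, Matrix.one_mulVec, Matrix.one_mulVec]
      mul_mem' := fun {a b} ha hb x y => by
        rw [mat_mul, ← Matrix.mulVec_mulVec, ← Matrix.mulVec_mulVec, ha, hb]
      inv_mem' := fun {a} ha x y => by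
        rw [← ha, Matrix.mulVec_mulVec, Matrix.mulVec_mulVec, ← mat_mul, mul_inv_cancel, mat_one,
          Matrix.one_mulVec, Matrix.one_mulVec] }
  have h2 : (2 : F) = 0 := CharTwo.two_eq_zero
  have : g ∈ S := by
    rw [eq_top_of_gens hF hm (S := S)]
    · trivial
    · intro a b x y
      rw [mat_uS]
      simp [pair_apply, uM, fQ, Matrix.mulVec, dotProduct, Fin.sum_univ_four]
      grind
    · intro t x y
      rw [mat_tS]
      have h0 : (t : F) ≠ 0 := t.ne_zero
      have h1 : th F m (t : F) ≠ 0 := θ_ne_zero h0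
      simp [pair_apply, tM, Matrix.mulVec, dotProduct, Fin.sum_univ_four]
      field_simp
    · intro x y
      rw [mat_wS]
      simp [pair_apply, wM, Matrix.mulVec, dotProduct, Fin.sum_univ_four]
      ring
  exact this

include hF in
theorem pair_mat_inv (hm : 1 ≤ m) (g : Cfsg.Sz F m) (x y : Fin 4 → F) :
    pair (mat g *ᵥ x) y = pair x (mat g⁻¹ *ᵥ y) := by
  rw [← pair_mat hF hm g⁻¹ (mat g *ᵥ x) y, Matrix.mulVec_mulVec, ← mat_mul, inv_mul_cancel, mat_one,
    Matrix.one_mulVec]

include hF in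
/-- The natural module is irreducible. -/
theorem nat_irred (P : Submodule F (Fin 4 → F)) (hP : ∀ g : Cfsg.Sz F m, ∀ x ∈ P, mat g *ᵥ x ∈ P)
    (hne : P ≠ ⊥) : P = ⊤ := by
  classical
  haveI : Nontrivial ↥P := Submodule.nontrivial_iff_ne_bot.2 hne
  obtain ⟨⟨x, hx⟩, hx0, hfix⟩ := exists_fixed_uSub hF (W := ↥P)
    { toFun := fun u => (mat (u : Cfsg.Sz F m)).mulVecLin.restrict (hP _)
      map_one' := LinearMap.ext fun x => Subtype.ext (by
        show mat ((1 : uSub hF) : Cfsg.Sz F m) *ᵥ (x : Fin 4 → F) = _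
        rw [OneMemClass.coe_one, mat_one, Matrix.one_mulVec]; rfl)
      map_mul' := fun u u' => LinearMap.ext fun x => Subtype.ext (by
        show mat ((u * u' : uSub hF) : Cfsg.Sz F m) *ᵥ (x : Fin 4 → F) = mat (u : Cfsg.Sz F m) *ᵥ (mat (u' : Cfsg.Sz F m) *ᵥ (x : Fin 4 → F))
        rw [Subgroup.coe_mul, mat_mul, Matrix.mulVec_mulVec]) }
  have hfix' : ∀ a b, uD m a b x = 0 := fun a b => by
    have h1 : mat (uS hF a b) *ᵥ x = x := congrArg Subtype.val (hfix ⟨_, a, b, rfl⟩)
    rw [← mat_D hF, h1]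
    funext k; exact CharTwo.add_self_eq_zero _
  have h3 : x 3 = 0 := by simpa [uD] using congrFun (hfix' 1 0) 2
  have h2 : x 2 = 0 := by simpa [uD, h3] using congrFun (hfix' 1 0) 1
  have h1 : x 1 = 0 := by simpa [uD, h3, h2] using congrFun (hfix' 1 0) 0
  have hx00 : x 0 ≠ 0 := fun h0 => hx0 (Subtype.ext (by funext k; fin_cases k <;> simpa))
  have he0 : (![1, 0, 0, 0] : Fin 4 → F) ∈ P := by
    have := P.smul_mem (x 0)⁻¹ hx
    convert this using 1
    funext k
    fin_cases k <;> simp [h1, h2, h3, hx00]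
  have he3 : (![0, 0, 0, 1] : Fin 4 → F) ∈ P := by
    convert hP (wS hF) _ he0 using 1
    rw [mat_wS]
    funext k; fin_cases k <;> simp [wM, Matrix.mulVec, dotProduct, Fin.sum_univ_four]
  refine (Submodule.eq_top_iff' (p := P)).2 fun v => ?_
  have := add_mem (add_mem (P.smul_mem (v 0 + v 1 + v 2) he0) (P.smul_mem (v 3 + v 1 + v 2) he3))
    (add_mem (P.smul_mem (v 1) (hP (uS hF 0 1) _ he3)) (P.smul_mem (v 2) (hP (uS hF 1 0) _ he3)))
  convert this using 1
  rw [mat_uS, mat_uS]
  have h22 : (2 : F) = 0 := CharTwo.two_eq_zero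
  funext k
  fin_cases k <;> simp [uM, fQ, Matrix.mulVec, dotProduct, Fin.sum_univ_four] <;> grind

/-- The dual representation. -/
def dualRep : Cfsg.Sz F m →* Module.End F (Module.Dual F V) where
  toFun g := (ρ g⁻¹).dualMap
  map_one' := LinearMap.ext fun f => LinearMap.ext fun v => by
    show f (ρ 1⁻¹ v) = f v
    rw [inv_one, rho_one]
  map_mul' g g' := LinearMap.ext fun f => LinearMap.ext fun v => by
    show f (ρ (g * g')⁻¹ v) = f (ρ g'⁻¹ (ρ g⁻¹ v))
    rw [mul_inv_rev, rho_mul]

theorem dualRep_apply (g : Cfsg.Sz F m) (f : Module.Dual F V) (v : V) : dualRep ρ g f v = f (ρ g⁻¹ v) := rfl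

theorem Fpf5.dual (h5 : Fpf5 hF ρ) : Fpf5 hF (dualRep ρ) := by
  intro f
  refine LinearMap.ext fun v => ?_
  have hinv : ∀ k l : ℕ, k + l = 5 → (five hF ^ k : Cfsg.Sz F m)⁻¹ = five hF ^ l := fun k l h =>
    inv_eq_of_mul_eq_one_right (by rw [← pow_add, h, five_pow_five])
  simp only [LinearMap.add_apply, dualRep_apply, LinearMap.zero_apply, hinv 2 3 rfl, hinv 3 2 rfl, hinv 4 1 rfl]
  rw [show (five hF : Cfsg.Sz F m)⁻¹ = five hF ^ 4 by rw [← hinv 1 4 rfl, pow_one], pow_one]
  have := congrArg f (h5 v)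
  simp only [map_add, map_zero] at this
  rw [← this]
  abel

section
variable {ρ} {φ φ' : F →+* F} {ι : (Fin 4 → F) →+ V} {π : V →+ (Fin 4 → F)}

include hF in
/-- The dual of a natural module by a natural module. -/
theorem NatExt.dual (hm : 1 ≤ m) (h : NatExt ρ φ ι φ' π) :
    ∃ (ι' : (Fin 4 → F) →+ Module.Dual F V) (π' : Module.Dual F V →+ (Fin 4 → F)),
      NatExt (dualRep ρ) φ' ι' φ π' ∧ (∀ f y, f (ι y) = φ (pair (π' f) y)) ∧
        ∀ x v, ι' x v = φ' (pair x (π v)) := by
  classical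
  let Eφ := RingEquiv.ofBijective φ (hom_bij φ)
  let Eφ' := RingEquiv.ofBijective φ' (hom_bij φ')
  let ι' : (Fin 4 → F) →+ Module.Dual F V :=
    { toFun := fun x =>
        { toFun := fun v => φ' (pair x (π v))
          map_add' := fun v w => by rw [map_add, pair_add_right, map_add]
          map_smul' := fun c v => by
            obtain ⟨d, rfl⟩ := (hom_bij φ').2 c
            rw [h.proj.smul, pair_smul_right, map_mul]; rfl }
      map_zero' := LinearMap.ext fun v => by
        show φ' (pair 0 (π v)) = 0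
        simp [pair_apply]
      map_add' := fun x y => LinearMap.ext fun v => by
        show φ' (pair (x + y) (π v)) = φ' (pair x (π v)) + φ' (pair y (π v))
        rw [pair_add_left, map_add] }
  let π' : Module.Dual F V →+ (Fin 4 → F) :=
    { toFun := fun f k => Eφ.symm (f (ι (Pi.single (Fin.rev k) 1)))
      map_zero' := by funext k; exact map_zero Eφ.symm
      map_add' := fun f g => by funext k; exact map_add Eφ.symm _ _ }
  have hπ' : ∀ f y, f (ι y) = φ (pair (π' f) y) := by
    intro f y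
    have hy : y = ∑ k, y (Fin.rev k) • Pi.single (Fin.rev k) (1 : F) := by
      funext i
      fin_cases i <;> simp [Fin.sum_univ_four]
    conv_lhs => rw [hy]
    rw [map_sum, map_sum, pair, map_sum]
    refine Finset.sum_congr rfl fun k _ => ?_
    rw [h.emb.smul, map_smul, smul_eq_mul, map_mul, mul_comm]
    congr 1
    exact (Eφ.apply_symm_apply _).symm
  have hπsingle : ∀ f k, φ (π' f k) = f (ι (Pi.single (Fin.rev k) 1)) := fun f k => Eφ.apply_symm_apply _
  refine ⟨ι', π', ⟨⟨fun x y e => funext fun k => (hom_bij φ').1 ?_, fun c x => LinearMap.ext fun v => ?_,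
    fun g x => LinearMap.ext fun v => ?_⟩, ⟨fun c f => funext fun k => (hom_bij φ).1 ?_,
    fun g f => funext fun k => (hom_bij φ).1 ?_⟩, fun x => ?_, fun f => ⟨fun hf => ?_, ?_⟩⟩, hπ', fun x v => rfl⟩
  · obtain ⟨v, hv⟩ := h.surj (Pi.single (Fin.rev k) 1)
    have := DFunLike.congr_fun e v
    change φ' (pair x (π v)) = φ' (pair y (π v)) at this
    rwa [hv, pair_single, pair_single] at this
  · show φ' (pair (c • x) (π v)) = φ' c * φ' (pair x (π v))
    rw [pair_smul_left, map_mul]
  · show φ' (pair x (π (ρ g⁻¹ v))) = φ' (pair (mat g *ᵥ x) (π v))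
    rw [h.proj.equiv, pair_mat_inv hF hm]
  · rw [hπsingle, Pi.smul_apply, smul_eq_mul, map_mul, hπsingle]; rfl
  · rw [hπsingle, dualRep_apply, h.emb.equiv, hπ', ← pair_mat_inv hF hm, pair_single]
  · have hrange : ∀ (c : F) (v : V), v ∈ ι.range → c • v ∈ ι.range := fun c v hv => by
      obtain ⟨d, rfl⟩ := (hom_bij φ).2 c
      exact h.emb.smul_range d hv
    let U : Submodule F V := { ι.range with smul_mem' := fun c v hv => hrange c v hv }
    let g : ↥U →ₗ[F] F :=
      { toFun := fun u => φ (pair x (Function.invFun ι u.1))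
        map_add' := fun u v => by
          rw [← map_add, ← pair_add_right]
          congr 2
          refine h.emb.inj ?_
          rw [map_add, Function.invFun_eq u.2, Function.invFun_eq v.2, Function.invFun_eq (u + v).2]
          rfl
        map_smul' := fun c u => by
          obtain ⟨d, rfl⟩ := (hom_bij φ).2 c
          show φ (pair x (Function.invFun ι ((φ d • u : ↥U) : V))) = φ d * φ (pair x (Function.invFun ι u.1))
          rw [← map_mul, ← pair_smul_right]
          congr 2
          refine h.emb.inj ?_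
          rw [h.emb.smul, Function.invFun_eq u.2, Function.invFun_eq (φ d • u).2]
          rfl }
    obtain ⟨f, hf⟩ := LinearMap.exists_extend g
    refine ⟨f, funext fun k => (hom_bij φ).1 ?_⟩
    rw [hπsingle]
    have := DFunLike.congr_fun hf ⟨_, ⟨Pi.single (Fin.rev k) 1, rfl⟩⟩
    refine this.trans ?_
    show φ (pair x (Function.invFun ι (ι (Pi.single (Fin.rev k) 1)))) = φ (x k)
    rw [Function.leftInverse_invFun h.emb.inj, pair_single]
  · obtain ⟨sec, hsec⟩ := h.surj.hasRightInverse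
    refine ⟨fun k => Eφ'.symm (f (sec (Pi.single (Fin.rev k) 1))), LinearMap.ext fun v => ?_⟩
    show φ' (pair _ (π v)) = f v
    obtain ⟨w, hw⟩ : ∃ w, w = ∑ k, φ' (π v (Fin.rev k)) • sec (Pi.single (Fin.rev k) (1 : F)) := ⟨_, rfl⟩
    have hvw : π (v - w) = 0 := by
      rw [map_sub, hw, map_sum, sub_eq_zero]
      simp only [h.proj.smul, hsec _]
      funext i
      fin_cases i <;> simp [Fin.sum_univ_four]
    obtain ⟨y, hy⟩ := (h.ker _).1 hvw
    have hfv : f v = f w := by
      rw [← sub_eq_zero, ← map_sub, ← hy, hπ', hf]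
      simp [pair_apply]
    rw [hfv, hw, map_sum, pair, map_sum]
    refine Finset.sum_congr rfl fun k _ => ?_
    rw [map_smul, smul_eq_mul, map_mul, mul_comm]
    congr 1
    exact Eφ'.apply_symm_apply _
  · rintro ⟨x, rfl⟩
    funext k
    refine (hom_bij φ).1 ?_
    rw [hπsingle, Pi.zero_apply, map_zero]
    show φ' (pair x (π (ι _))) = 0
    rw [(h.ker _).2 ⟨_, rfl⟩]
    simp [pair_apply]

/-- The fixed weight vector lifts. -/
theorem NatExt.exists_fixed (hm : 1 ≤ m) (h : NatExt ρ φ ι φ' π) :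
    ∃ e : V, π e = Pi.single 0 1 ∧ e ∈ Eig hF ρ φ' 1 ∧ ∀ a b, ρ (uS hF a b) e = e := by
  classical
  obtain ⟨j, hj⟩ := exists_twist hF φ φ'
  obtain ⟨a0, ha0⟩ := h.surj (Pi.single 0 1)
  obtain ⟨a1, ha1⟩ := h.surj (Pi.single 1 1)
  obtain ⟨a3, ha3⟩ := h.surj (Pi.single 3 1)
  have hsingle : ∀ (k : Fin 4) (w : V), π w = Pi.single k 1 →
      π (pr hF ρ φ' (wt m k) w) = Pi.single k 1 := by
    intro k w hw
    rw [h.proj.pr hF, hw]
    funext i
    rcases eq_or_ne i k with rfl | hik
    · simp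
    · rw [if_neg (fun e => hik (wt_injective hm e)), Pi.single_eq_of_ne hik]
  have heig : ∀ (k : Fin 4) (w : V), pr hF ρ φ' (wt m k) w ∈ Eig hF ρ φ (wt m k * 2 ^ j) := fun k w =>
    eig_twist hF hj (pr_mem hF ρ φ' _ w)
  have h0e := heig 0 a0
  have h1e := heig 1 a1
  have h3e := heig 3 a3
  have h0p := hsingle 0 a0 ha0
  have h1p := hsingle 1 a1 ha1
  have h3p := hsingle 3 a3 ha3
  generalize pr hF ρ φ' (wt m 0) a0 = e1 at h0e h0p
  generalize pr hF ρ φ' (wt m 1) a1 = y1 at h1e h1p
  generalize pr hF ρ φ' (wt m 3) a3 = v0 at h3e h3p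
  simp [wt] at h0e h1e h3e
  obtain ⟨e, he, heE, hfix⟩ := h.emb.exists_fixed_lift hF hm j h0e h1e h3e
    (fun a => (h.ker _).1 (by rw [h.proj.D_uS hF, h0p]; funext k; fin_cases k <;> simp [uD]))
    (fun b => (h.ker _).1 (by rw [h.proj.D_uS hF, h0p]; funext k; fin_cases k <;> simp [uD]))
    (fun a => (h.ker _).1 (by
      rw [← hj, map_add, h.proj.D_uS hF, h.proj.smul, h0p, h1p]
      funext k; fin_cases k <;> simp [uD, CharTwo.add_self_eq_zero]))
    (fun b => (h.ker _).1 (by rw [h.proj.D_uS hF, h1p]; funext k; fin_cases k <;> simp [uD]))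
    (fun b => (h.ker _).1 (by
      rw [← hj, ← hj, map_add, map_add, h.proj.D_uS hF, h.proj.smul, h.proj.smul, h0p, h1p, h3p]
      funext k; simp only [Pi.add_apply, Pi.smul_apply]; fin_cases k <;> simp [uD, fQ, CharTwo.add_self_eq_zero]))
  refine ⟨e, ?_, fun t => ?_, hfix⟩
  · have := (h.ker _).2 he
    rw [map_add, h0p] at this
    exact eq_of_add_eq_zero (F := F) this
  · rw [heE t, hj, tp_one hF, tp_two_pow hF]

end

end CfsgLib.SzModule
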