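import Cfsg.Agent.Lib.SzModule.Pairing
import Mathlib.LinearAlgebra.TensorProduct.Tower

/-!
# Extending the scalars from the prime field

Actions on elementary abelian `2`-groups without fixed points of the element of order five.
-/

set_option autoImplicit false
set_option linter.all false

namespace CfsgLib.SzModule

open CfsgLib.Lie.Suzuki
open scoped TensorProduct Matrix

variable {F : Type*} [Field F] [CharP F 2] [Fintype F] {m : ℕ}
  (hF : Fintype.card F = 2 ^ (2 * m + 1))

/-- The norm of the element of order five vanishes on an abelian group. -/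
def Norm5 {A : Type*} [AddCommGroup A] (act : Cfsg.Sz F m →* AddMonoid.End A) : Prop :=
  ∀ a : A, a + act (five hF) a + act (five hF ^ 2) a + act (five hF ^ 3) a + act (five hF ^ 4) a = 0

theorem act_mul {A : Type*} [AddCommGroup A] (act : Cfsg.Sz F m →* AddMonoid.End A) (g h : Cfsg.Sz F m) (a : A) :
    act (g * h) a = act g (act h a) := by rw [map_mul]; rfl

theorem act_one {A : Type*} [AddCommGroup A] (act : Cfsg.Sz F m →* AddMonoid.End A) (a : A) : act 1 a = a := by
  rw [map_one]; rfl

/-- The restriction to an invariant subgroup. -/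
def restr {A : Type*} [AddCommGroup A] (act : Cfsg.Sz F m →* AddMonoid.End A) (B : AddSubgroup A)
    (hB : ∀ g, ∀ a ∈ B, act g a ∈ B) : Cfsg.Sz F m →* AddMonoid.End ↥B where
  toFun g :=
    ({ toFun := fun a => ⟨(act g : A →+ A) (a : A), hB g _ a.2⟩
       map_zero' := Subtype.ext (map_zero (act g : A →+ A))
       map_add' := fun a b => Subtype.ext (map_add (act g : A →+ A) (a : A) (b : A)) } : ↥B →+ ↥B)
  map_one' := AddMonoidHom.ext fun a => Subtype.ext (act_one act (a : A))
  map_mul' g h := AddMonoidHom.ext fun a => Subtype.ext (act_mul act g h (a : A))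

theorem restr_coe {A : Type*} [AddCommGroup A] (act : Cfsg.Sz F m →* AddMonoid.End A) (B : AddSubgroup A)
    (hB : ∀ g, ∀ a ∈ B, act g a ∈ B) (g : Cfsg.Sz F m) (a : ↥B) : (restr act B hB g a : A) = act g (a : A) := rfl

theorem Norm5.restr {A : Type*} [AddCommGroup A] {act : Cfsg.Sz F m →* AddMonoid.End A} (h5 : Norm5 hF act)
    (B : AddSubgroup A) (hB : ∀ g, ∀ a ∈ B, act g a ∈ B) : Norm5 hF (restr act B hB) := fun a =>
  Subtype.ext (h5 (a : A))

variable [Algebra (ZMod 2) F]
variable {A : Type*} [AddCommGroup A] [Module (ZMod 2) A]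

/-- The action over `F`. -/
noncomputable def scal (act : Cfsg.Sz F m →* AddMonoid.End A) : Cfsg.Sz F m →* Module.End F (F ⊗[ZMod 2] A) where
  toFun g := LinearMap.baseChange F (AddMonoidHom.toZModLinearMap 2 (act g : A →+ A))
  map_one' := by
    refine TensorProduct.AlgebraTensorModule.curry_injective (LinearMap.ext fun c => LinearMap.ext fun a => ?_)
    show c ⊗ₜ[ZMod 2] (act 1 a) = c ⊗ₜ[ZMod 2] a
    rw [act_one]
  map_mul' g h := by
    refine TensorProduct.AlgebraTensorModule.curry_injective (LinearMap.ext fun c => LinearMap.ext fun a => ?_)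
    show c ⊗ₜ[ZMod 2] (act (g * h) a) = c ⊗ₜ[ZMod 2] (act g (act h a))
    rw [act_mul]

theorem scal_tmul (act : Cfsg.Sz F m →* AddMonoid.End A) (g : Cfsg.Sz F m) (c : F) (a : A) :
    scal act g (c ⊗ₜ[ZMod 2] a) = c ⊗ₜ[ZMod 2] act g a := rfl

theorem Norm5.scal {act : Cfsg.Sz F m →* AddMonoid.End A} (h5 : Norm5 hF act) : Fpf5 hF (scal act) := by
  intro v
  induction v using TensorProduct.induction_on with
  | zero => simp
  | tmul c a => simp only [scal_tmul, ← TensorProduct.tmul_add, h5 a, TensorProduct.tmul_zero]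
  | add x y hx hy =>
    simp only [map_add]
    calc _ = (x + CfsgLib.SzModule.scal act (five hF) x + CfsgLib.SzModule.scal act (five hF ^ 2) x +
          CfsgLib.SzModule.scal act (five hF ^ 3) x + CfsgLib.SzModule.scal act (five hF ^ 4) x) +
        (y + CfsgLib.SzModule.scal act (five hF) y + CfsgLib.SzModule.scal act (five hF ^ 2) y +
          CfsgLib.SzModule.scal act (five hF ^ 3) y + CfsgLib.SzModule.scal act (five hF ^ 4) y) := by abel
      _ = 0 := by rw [hx, hy, add_zero]

theorem finite_scal [Finite A] : Finite (F ⊗[ZMod 2] A) := by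
  haveI : Module.Finite (ZMod 2) A := Module.Finite.of_finite
  exact Module.finite_of_finite F

theorem eq_zero_of_tmul {a : A} (h : (1 : F) ⊗ₜ[ZMod 2] a = 0) : a = 0 := by
  haveI : Fact (Nat.Prime 2) := ⟨Nat.prime_two⟩
  by_contra ha
  obtain ⟨l, hl⟩ := Module.Projective.exists_dual_ne_zero (ZMod 2) ha
  have h1 := congrArg (LinearMap.liftBaseChange F ((Algebra.linearMap (ZMod 2) F).comp l)) h
  rw [LinearMap.liftBaseChange_tmul, map_zero, one_smul] at h1
  exact hl ((map_eq_zero (algebraMap (ZMod 2) F)).1 h1)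

omit [Algebra (ZMod 2) F] [Module (ZMod 2) A] in
include hF in
/-- Equivariant biadditive pairings between elementary abelian groups vanish. -/
theorem pairing_zero {A' A'' : Type*} [AddCommGroup A'] [AddCommGroup A''] [Finite A] [Finite A'] [Finite A'']
    (hm : 1 ≤ m) {act : Cfsg.Sz F m →* AddMonoid.End A} {act' : Cfsg.Sz F m →* AddMonoid.End A'}
    {act'' : Cfsg.Sz F m →* AddMonoid.End A''} (h : Norm5 hF act) (h' : Norm5 hF act') (h'' : Norm5 hF act'')
    (e : ∀ a : A, a + a = 0) (e' : ∀ a : A', a + a = 0) (e'' : ∀ a : A'', a + a = 0) (B : A → A' → A'')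
    (hl : ∀ a b c, B (a + b) c = B a c + B b c) (hr : ∀ a b c, B a (b + c) = B a b + B a c)
    (hB : ∀ g a b, B (act g a) (act' g b) = act'' g (B a b)) (a : A) (b : A') : B a b = 0 := by
  classical
  letI := ZMod.algebra F 2
  letI : Module (ZMod 2) A := AddCommGroup.zmodModule fun a => by rw [two_nsmul]; exact e a
  letI : Module (ZMod 2) A' := AddCommGroup.zmodModule fun a => by rw [two_nsmul]; exact e' a
  letI : Module (ZMod 2) A'' := AddCommGroup.zmodModule fun a => by rw [two_nsmul]; exact e'' a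
  haveI : Finite (F ⊗[ZMod 2] A) := finite_scal
  haveI : Finite (F ⊗[ZMod 2] A') := finite_scal
  haveI : Finite (F ⊗[ZMod 2] A'') := finite_scal
  let b0 : A → (F ⊗[ZMod 2] A' →ₗ[F] F ⊗[ZMod 2] A'') := fun a =>
    LinearMap.baseChange F (AddMonoidHom.toZModLinearMap 2 (AddMonoidHom.mk' (B a) (hr a)))
  have hb0 : ∀ a c b, b0 a (c ⊗ₜ[ZMod 2] b) = c ⊗ₜ[ZMod 2] B a b := fun a c b => rfl
  let β : F ⊗[ZMod 2] A →ₗ[F] F ⊗[ZMod 2] A' →ₗ[F] F ⊗[ZMod 2] A'' :=
    LinearMap.liftBaseChange F (AddMonoidHom.toZModLinearMap 2 (AddMonoidHom.mk' b0 fun a a' =>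
      TensorProduct.AlgebraTensorModule.curry_injective (LinearMap.ext fun c => LinearMap.ext fun b => by
        show b0 (a + a') (c ⊗ₜ[ZMod 2] b) = b0 a (c ⊗ₜ[ZMod 2] b) + b0 a' (c ⊗ₜ[ZMod 2] b)
        rw [hb0, hb0, hb0, hl, TensorProduct.tmul_add])))
  have hβt : ∀ d a c b, β (d ⊗ₜ[ZMod 2] a) (c ⊗ₜ[ZMod 2] b) = d • (c ⊗ₜ[ZMod 2] B a b) := fun d a c b => by
    simp only [β, LinearMap.liftBaseChange_tmul, LinearMap.smul_apply]
    rfl
  have hβ0 : β = 0 := by
    refine pairing_eq_zero hF β hm (h.scal hF) (h'.scal hF) (h''.scal hF) fun g x y => ?_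
    induction x using TensorProduct.induction_on with
    | zero => simp
    | add x x' hx hx' => simp only [map_add, LinearMap.add_apply, hx, hx']
    | tmul d a =>
      induction y using TensorProduct.induction_on with
      | zero => simp
      | add y y' hy hy' => simp only [map_add, hy, hy']
      | tmul c b => rw [scal_tmul, scal_tmul, hβt, hβt, map_smul, scal_tmul, hB]
  refine eq_zero_of_tmul (F := F) ?_
  rw [← one_smul F ((1 : F) ⊗ₜ[ZMod 2] B a b), ← hβt, hβ0]
  rfl

end CfsgLib.SzModule
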