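import Cfsg.Agent.Lib.SzModule.Proj

/-!
# Semisimplicity

* `NatExt.exists_section`: natural by natural splits
* `natEmb_span`: modules are spanned by natural submodules
* `natProj_sep`: the natural quotients separate the points
-/

set_option autoImplicit false
set_option linter.all false
set_option maxHeartbeats 800000

namespace CfsgLib.SzModule

open CfsgLib.Lie.Suzuki
open scoped Matrix

variable {F : Type*} [Field F] [CharP F 2] [Fintype F] {m : ℕ}
  (hF : Fintype.card F = 2 ^ (2 * m + 1))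

include hF in
/-- The two double cosets of the stabiliser of the point at infinity. -/
theorem bruhat (hm : 1 ≤ m) (g : Cfsg.Sz F m) :
    (∃ a b t, g = uS hF a b * tS hF t) ∨ ∃ a b c d t, g = uS hF a b * wS hF * (uS hF c d * tS hF t) := by
  obtain ⟨_ | ⟨a, b⟩, ho⟩ := (pt F m).surjective (g • pt F m none)
  · exact Or.inl (stab_inf hF hm ho.symm)
  · obtain ⟨c, d, t, h⟩ := stab_inf hF hm (g := wS hF * (uS hF a b)⁻¹ * g) (by
      rw [mul_smul, mul_smul, ← ho]
      conv_lhs => rw [← uS_zero hF a b, inv_smul_smul, wS_zero])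
    refine Or.inr ⟨a, b, c, d, t, ?_⟩
    rw [← h, ← mul_assoc, ← mul_assoc, mul_assoc (uS hF a b), wS_mul_self, mul_one, mul_inv_cancel, one_mul]

variable {V : Type*} [AddCommGroup V] [Module F V] {ρ : Cfsg.Sz F m →* Module.End F V}

include hF in
/-- Natural by natural splits. -/
theorem NatExt.exists_section {φ φ' : F →+* F} {ι : (Fin 4 → F) →+ V} {π : V →+ (Fin 4 → F)}
    (hm : 1 ≤ m) (h : NatExt ρ φ ι φ' π) :
    ∃ κ : (Fin 4 → F) →+ V, NatEmb ρ φ' κ ∧ ∀ x, π (κ x) = x := by
  classical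
  obtain ⟨e, he, heE, hefix⟩ := h.exists_fixed hF hm
  obtain ⟨ι', π', hd, hπ', hι'⟩ := h.dual hF hm
  obtain ⟨f, hf, hfE, hffix⟩ := hd.exists_fixed hF hm
  have hetor : ∀ a b (t : Fˣ), ρ (uS hF a b * tS hF t) e = φ' (t : F) • e := fun a b t => by
    rw [rho_mul, heE t, tp_one hF, map_smul, hefix]
  have hfu : ∀ a b v, f (ρ (uS hF a b) v) = f v := fun a b v => by
    have := DFunLike.congr_fun (hffix a (b + th F m a * a)) v
    rwa [dualRep_apply, ← uS_inv, inv_inv] at this
  have hfι : ∀ y, f (ι y) = φ (y 3) := fun y => by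
    rw [hπ', hf]
    simp [pair_apply]
  have hfe : f e = 0 := by
    have h1 : ∀ t : Fˣ, φ' ((t⁻¹ : Fˣ) : F) * f e = φ (t : F) * f e := fun t => by
      have h2 := DFunLike.congr_fun (hfE t) e
      rwa [dualRep_apply, ← map_inv, LinearMap.smul_apply, heE t⁻¹, map_smul, tp_one hF, tp_one hF,
        smul_eq_mul, smul_eq_mul] at h2
    by_contra hne
    obtain ⟨j, hj⟩ := exists_twist hF φ φ'
    refine two_pow_add_one_ne_zero hm j ?_
    refine tp_injective hF fun t => ?_
    have h2 := mul_right_cancel₀ hne (h1 t)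
    rw [hj] at h2
    have h3 := φ.injective h2
    rw [tp_add hF, tp_two_pow hF, tp_one hF, tp_zero]
    rw [← Units.val_pow_eq_pow_val] at h3
    rw [← Units.val_pow_eq_pow_val, ← h3, ← Units.val_mul, ← mul_pow]
    simp
  obtain ⟨ψ, hψ⟩ : ∃ ψ : V →ₗ[F] F, ψ = ι' (Pi.single 0 1) := ⟨_, rfl⟩
  have hψv : ∀ v, ψ v = φ' (π v 3) := fun v => by
    rw [hψ, hι']
    simp [pair_apply]
  obtain ⟨χ, hχ⟩ : ∃ χ : V →ₗ[F] F, χ = f - f (ρ (wS hF) e) • ψ := ⟨_, rfl⟩
  have hχg : ∀ g, χ (ρ g e) = 0 := fun g => by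
    rw [hχ, LinearMap.sub_apply, LinearMap.smul_apply, hψv, h.proj.equiv, he, smul_eq_mul]
    rcases bruhat hF hm g with ⟨a, b, t, rfl⟩ | ⟨a, b, c, d, t, rfl⟩
    · rw [hetor, map_smul, hfe, smul_zero, mat_mul, ← Matrix.mulVec_mulVec, mat_tS, mat_uS]
      simp [uM, tM, Matrix.mulVec, dotProduct, Fin.sum_univ_four]
    · rw [rho_mul ρ (uS hF a b * wS hF), hetor, map_smul, map_smul, rho_mul, hfu, mat_mul,
        ← Matrix.mulVec_mulVec, mat_mul, mat_mul, ← Matrix.mulVec_mulVec, ← Matrix.mulVec_mulVec, mat_tS, mat_uS,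
        mat_uS, mat_wS]
      simp [uM, tM, wM, Matrix.mulVec, dotProduct, Fin.sum_univ_four]
      ring
  let S : Submodule F V := Submodule.span F (Set.range fun g => ρ g e)
  have hSe : e ∈ S := Submodule.subset_span ⟨1, rho_one ρ e⟩
  have hSg : ∀ g, ∀ v ∈ S, ρ g v ∈ S := fun g v hv => by
    induction hv using Submodule.span_induction with
    | mem x hx =>
      obtain ⟨g', rfl⟩ := hx
      exact Submodule.subset_span ⟨g * g', rho_mul ρ g g' e⟩
    | zero => rw [map_zero]; exact zero_mem _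
    | add x y _ _ hx hy => rw [map_add]; exact add_mem hx hy
    | smul c x _ hx => rw [map_smul]; exact S.smul_mem c hx
  have hχS : S ≤ LinearMap.ker χ := Submodule.span_le.2 (by rintro _ ⟨g, rfl⟩; exact hχg g)
  -- the intersection with the submodule
  let P : Submodule F (Fin 4 → F) :=
    { carrier := {x | ι x ∈ S}
      zero_mem' := by show ι 0 ∈ S; rw [map_zero]; exact zero_mem _
      add_mem' := fun {a b} ha hb => by show ι (a + b) ∈ S; rw [map_add]; exact add_mem ha hb
      smul_mem' := fun c x hx => by show ι (c • x) ∈ S; rw [h.emb.smul]; exact S.smul_mem _ hx }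
  have hPbot : P = ⊥ := by
    by_contra hP
    have h1 := nat_irred hF P (fun g x hx => by show ι _ ∈ S; rw [← h.emb.equiv]; exact hSg g _ hx) hP
    have h2 : ι (Pi.single 3 1) ∈ S := (h1 ▸ Submodule.mem_top : Pi.single 3 1 ∈ P)
    have h3 := hχS h2
    rw [LinearMap.mem_ker, hχ, LinearMap.sub_apply, LinearMap.smul_apply, hfι, hψv,
      (h.ker _).2 ⟨_, rfl⟩] at h3
    simp at h3
  -- the image
  let P' : Submodule F (Fin 4 → F) :=
    { carrier := {x | ∃ v ∈ S, π v = x}
      zero_mem' := ⟨0, zero_mem _, map_zero π⟩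
      add_mem' := by
        rintro _ _ ⟨v, hv, rfl⟩ ⟨w, hw, rfl⟩
        exact ⟨v + w, add_mem hv hw, map_add π v w⟩
      smul_mem' := by
        rintro c _ ⟨v, hv, rfl⟩
        exact ⟨φ' c • v, S.smul_mem _ hv, h.proj.smul c v⟩ }
  have hP'top : P' = ⊤ := by
    refine nat_irred hF P' ?_ fun hP => ?_
    · rintro g _ ⟨v, hv, rfl⟩
      exact ⟨ρ g v, hSg g v hv, h.proj.equiv g v⟩
    · have : (Pi.single 0 1 : Fin 4 → F) ∈ P' := ⟨e, hSe, he⟩
      rw [hP, Submodule.mem_bot] at this
      simpa using congrFun this 0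
  have hinj : ∀ v ∈ S, ∀ w ∈ S, π v = π w → v = w := fun v hv w hw hvw => by
    obtain ⟨x, hx⟩ := (h.ker (v - w)).1 (by rw [map_sub, hvw, sub_self])
    have h1 : x ∈ P := show ι x ∈ S by rw [hx]; exact sub_mem hv hw
    rw [hPbot, Submodule.mem_bot] at h1
    rw [h1, map_zero] at hx
    exact sub_eq_zero.1 hx.symm
  choose s hsS hsπ using fun x => (hP'top ▸ Submodule.mem_top : x ∈ P')
  let κ : (Fin 4 → F) →+ V :=
    { toFun := s
      map_zero' := hinj _ (hsS _) _ (zero_mem _) (by rw [hsπ, map_zero])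
      map_add' := fun x y => hinj _ (hsS _) _ (add_mem (hsS _) (hsS _)) (by rw [map_add, hsπ, hsπ, hsπ]) }
  have hκπ : ∀ x, π (κ x) = x := hsπ
  refine ⟨κ, ⟨fun x y hxy => ?_, fun c x => ?_, fun g x => ?_⟩, hsπ⟩
  · rw [← hsπ x, ← hsπ y]; exact congrArg π hxy
  · exact hinj _ (hsS _) _ (S.smul_mem _ (hsS _)) (by rw [hsπ, h.proj.smul, hκπ])
  · exact hinj _ (hSg g _ (hsS _)) _ (hsS _) (by rw [h.proj.equiv]; exact (congrArg _ (hκπ x)).trans (hκπ _).symm)

include hF in
/-- Modules without fixed points of the element of order five are spanned by natural submodules. -/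
theorem natEmb_span (hm : 1 ≤ m) : ∀ (n : ℕ) {V : Type*} [AddCommGroup V] [Module F V] [Finite V]
    (ρ : Cfsg.Sz F m →* Module.End F V), Nat.card V ≤ n → Fpf5 hF ρ → ∀ S : Submodule F V,
    (∀ φ ι, NatEmb ρ φ ι → ∀ x, ι x ∈ S) → S = ⊤ := by
  intro n
  induction n using Nat.strong_induction_on with
  | _ n ih =>
    intro V _ _ _ ρ hn h5 S hS
    classical
    rcases subsingleton_or_nontrivial V with hV | hV
    · exact (Submodule.eq_top_iff' (p := S)).2 fun v => by rw [Subsingleton.elim v 0]; exact zero_mem _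
    -- a minimal submodule
    obtain ⟨U, ⟨hUg, hU0⟩, hUmin⟩ := (Set.toFinite
      {U : Submodule F V | (∀ g, ∀ u ∈ U, ρ g u ∈ U) ∧ U ≠ ⊥}).exists_minimal
      ⟨⊤, ⟨fun _ _ _ => trivial, top_ne_bot⟩⟩
    let ρU : Cfsg.Sz F m →* Module.End F ↥U :=
      { toFun := fun g => (ρ g).restrict (hUg g)
        map_one' := LinearMap.ext fun u => Subtype.ext (rho_one ρ (u : V))
        map_mul' := fun g g' => LinearMap.ext fun u => Subtype.ext (rho_mul ρ g g' (u : V)) }
    haveI : Nontrivial ↥U := Submodule.nontrivial_iff_ne_bot.2 hU0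
    obtain ⟨φ, ι, hι, hιs⟩ := exists_natEmb hF ρU hm (fun u => Subtype.ext (h5 (u : V))) (by
      intro W hW
      rcases eq_or_ne W ⊥ with hb | hb
      · exact Or.inl hb
      refine Or.inr ((Submodule.eq_top_iff' (p := W)).2 fun u => ?_)
      have h1 : W.map U.subtype ≠ ⊥ := fun e => hb (Submodule.map_injective_of_injective U.injective_subtype (by rw [e, Submodule.map_bot]))
      have h2 := hUmin (y := W.map U.subtype) ⟨by
        rintro g _ ⟨w, hw, rfl⟩
        exact ⟨_, hW g w hw, rfl⟩, h1⟩ (Submodule.map_subtype_le U W) u.2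
      obtain ⟨w, hw, e⟩ := h2
      rwa [← Subtype.ext e])
    let ι0 : (Fin 4 → F) →+ V := U.subtype.toAddMonoidHom.comp ι
    have hι0 : NatEmb ρ φ ι0 := ⟨fun x y e => hι.inj (Subtype.ext e), fun c x => congrArg Subtype.val (hι.smul c x),
      fun g x => congrArg Subtype.val (hι.equiv g x)⟩
    have hUS : U ≤ S := fun u hu => by
      obtain ⟨x, hx⟩ := hιs ⟨u, hu⟩
      have := hS φ ι0 hι0 x
      rwa [show ι0 x = u from congrArg Subtype.val hx] at this
    -- the quotient
    have hle : ∀ g, U ≤ U.comap (ρ g) := hUg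
    let ρQ : Cfsg.Sz F m →* Module.End F (V ⧸ U) :=
      { toFun := fun g => U.mapQ U (ρ g) (hle g)
        map_one' := LinearMap.ext fun q => by
          obtain ⟨v, rfl⟩ := Submodule.Quotient.mk_surjective U q
          show Submodule.Quotient.mk (ρ 1 v) = Submodule.Quotient.mk v
          rw [rho_one]
        map_mul' := fun g g' => LinearMap.ext fun q => by
          obtain ⟨v, rfl⟩ := Submodule.Quotient.mk_surjective U q
          show Submodule.Quotient.mk (ρ (g * g') v) = Submodule.Quotient.mk (ρ g (ρ g' v))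
          rw [rho_mul] }
    haveI : Finite (V ⧸ U) := Finite.of_surjective _ (Submodule.Quotient.mk_surjective U)
    have hlt : Nat.card (V ⧸ U) < n := by
      refine lt_of_lt_of_le ?_ hn
      rw [Submodule.card_eq_card_quotient_mul_card U]
      exact lt_mul_of_one_lt_left Nat.card_pos Finite.one_lt_card
    have h5Q : Fpf5 hF ρQ := fun q => by
      obtain ⟨v, rfl⟩ := Submodule.Quotient.mk_surjective U q
      exact congrArg (Submodule.Quotient.mk (p := U)) (h5 v)
    have hmap : S.map U.mkQ = ⊤ := by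
      refine ih _ hlt ρQ le_rfl h5Q _ fun φ' κ hκ x => ?_
      -- the preimage of a copy
      obtain ⟨E, hE⟩ : ∃ E : F ≃+* F, ∀ c, E c = φ' c := ⟨RingEquiv.ofBijective φ' (hom_bij φ'), fun _ => rfl⟩
      let R : Submodule F (V ⧸ U) :=
        { κ.range with
          smul_mem' := fun c q hq => by
            obtain ⟨d, rfl⟩ := (hom_bij φ').2 c
            exact hκ.smul_range d hq }
      let W : Submodule F V := R.comap U.mkQ
      have hWg : ∀ g, ∀ w ∈ W, ρ g w ∈ W := fun g w hw => by
        show Submodule.Quotient.mk (ρ g w) ∈ κ.range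
        exact hκ.map_range g (show Submodule.Quotient.mk w ∈ κ.range from hw)
      let ρW : Cfsg.Sz F m →* Module.End F ↥W :=
        { toFun := fun g => (ρ g).restrict (hWg g)
          map_one' := LinearMap.ext fun u => Subtype.ext (rho_one ρ (u : V))
          map_mul' := fun g g' => LinearMap.ext fun u => Subtype.ext (rho_mul ρ g g' (u : V)) }
      have hUW : U ≤ W := fun u hu => by
        show Submodule.Quotient.mk u ∈ κ.range
        rw [(Submodule.Quotient.mk_eq_zero U).2 hu]
        exact zero_mem _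
      let ιW : (Fin 4 → F) →+ ↥W := (Submodule.inclusion hUW).toAddMonoidHom.comp ι
      choose p hp using fun w : ↥W => (show Submodule.Quotient.mk (w : V) ∈ κ.range from w.2)
      let π : ↥W →+ (Fin 4 → F) :=
        { toFun := p
          map_zero' := hκ.inj (by rw [hp, map_zero]; rfl)
          map_add' := fun a b => hκ.inj (by rw [map_add, hp, hp, hp]; rfl) }
      have hext : NatExt ρW φ ιW φ' π := by
        refine ⟨⟨fun x y e => ?_, fun c x => Subtype.ext ?_, fun g x => Subtype.ext ?_⟩,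
          ⟨fun c w => hκ.inj ?_, fun g w => hκ.inj ?_⟩, fun x => ?_, fun w => ⟨fun hw => ?_, ?_⟩⟩
        · exact hι.inj (Subtype.ext (congrArg (fun w : ↥W => (w : V)) e))
        · exact congrArg (fun u : ↥U => (u : V)) (hι.smul c x)
        · exact congrArg (fun u : ↥U => (u : V)) (hι.equiv g x)
        · show κ (p _) = κ (c • p w)
          rw [hp, hκ.smul, hp]; rfl
        · show κ (p _) = κ (mat g *ᵥ p w)
          rw [hp, ← hκ.equiv, hp]; rfl
        · obtain ⟨v, hv⟩ := Submodule.Quotient.mk_surjective U (κ x)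
          exact ⟨⟨v, x, hv.symm⟩, hκ.inj ((hp _).trans hv)⟩
        · have h1 : Submodule.Quotient.mk (w : V) = (0 : V ⧸ U) := by
            rw [← hp, show p w = 0 from hw, map_zero]
          obtain ⟨x, hx⟩ := hιs ⟨_, (Submodule.Quotient.mk_eq_zero U).1 h1⟩
          exact ⟨x, Subtype.ext (congrArg (fun u : ↥U => (u : V)) hx)⟩
        · rintro ⟨x, rfl⟩
          refine hκ.inj ?_
          show κ (p _) = κ 0
          rw [hp, map_zero]
          exact (Submodule.Quotient.mk_eq_zero U).2 (ι x).2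
      obtain ⟨l, hl, hsec⟩ := hext.exists_section hF hm
      let l0 : (Fin 4 → F) →+ V := W.subtype.toAddMonoidHom.comp l
      have hl0 : NatEmb ρ φ' l0 := ⟨fun x y e => hl.inj (Subtype.ext e), fun c x => congrArg Subtype.val (hl.smul c x),
        fun g x => congrArg Subtype.val (hl.equiv g x)⟩
      refine ⟨l0 x, hS _ _ hl0 x, ?_⟩
      show Submodule.Quotient.mk (l x : V) = κ x
      rw [← hp, show p (l x) = x from hsec x]
    refine (Submodule.eq_top_iff' (p := S)).2 fun v => ?_
    obtain ⟨s, hs, hsv⟩ := (hmap ▸ Submodule.mem_top : U.mkQ v ∈ S.map U.mkQ)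
    have : s - v ∈ U := (Submodule.Quotient.eq U).1 hsv
    simpa using sub_mem hs (hUS this)

include hF in
/-- The natural quotients separate the points. -/
theorem natProj_sep (hm : 1 ≤ m) [Finite V] (h5 : Fpf5 hF ρ) (v : V)
    (h : ∀ φ π, NatProj ρ φ π → π v = 0) : v = 0 := by
  classical
  haveI : Finite (Module.Dual F V) := Finite.of_injective (fun l => (l : V → F)) DFunLike.coe_injective
  by_contra hv
  obtain ⟨f, hf⟩ := Module.Projective.exists_dual_ne_zero F hv
  refine hf ?_
  let S : Submodule F (Module.Dual F V) := LinearMap.ker (Module.Dual.eval F V v)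
  suffices hS : S = ⊤ by exact (hS ▸ Submodule.mem_top : f ∈ S)
  refine natEmb_span hF hm _ (dualRep ρ) le_rfl (h5.dual hF) S fun φ ι hι x => ?_
  let E := RingEquiv.ofBijective φ (hom_bij φ)
  let π : V →+ (Fin 4 → F) :=
    { toFun := fun w k => E.symm (ι (Pi.single (Fin.rev k) 1) w)
      map_zero' := by funext k; simp
      map_add' := fun a b => by funext k; simp }
  have hEπ : ∀ w k, φ (π w k) = ι (Pi.single (Fin.rev k) 1) w := fun w k => E.apply_symm_apply _
  have hpair : ∀ y w, ι y w = φ (pair y (π w)) := by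
    intro y w
    have hy : y = ∑ k, y k • Pi.single k (1 : F) := by
      funext i
      fin_cases i <;> simp [Fin.sum_univ_four]
    conv_lhs => rw [hy]
    rw [map_sum, LinearMap.sum_apply, pair, map_sum]
    refine Finset.sum_congr rfl fun k _ => ?_
    rw [hι.smul, LinearMap.smul_apply, smul_eq_mul, map_mul, hEπ, Fin.rev_rev]
  have hπ : NatProj ρ φ π := by
    refine ⟨fun c w => funext fun k => (hom_bij φ).1 ?_, fun g w => funext fun k => (hom_bij φ).1 ?_⟩
    · rw [hEπ, map_smul, Pi.smul_apply, smul_eq_mul, smul_eq_mul, map_mul, hEπ]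
    · rw [hEπ, show ρ g w = ρ (g⁻¹)⁻¹ w by rw [inv_inv], ← dualRep_apply, hι.equiv, hpair, pair_mat_inv hF hm,
        inv_inv]
      congr 1
      rw [pair_apply]
      fin_cases k <;> simp
  show ι x v = 0
  rw [hpair, h φ π hπ]
  simp [pair_apply]

end CfsgLib.SzModule
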