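import Cfsg.Agent.Lib.SzModule.Natural

/-!
# Weights on a natural submodule
-/

set_option autoImplicit false
set_option linter.all false

namespace CfsgLib.SzModule

open CfsgLib.Lie.Suzuki
open scoped Matrix

variable {F : Type*} [Field F] [CharP F 2] [Fintype F] {m : ℕ}
  (hF : Fintype.card F = 2 ^ (2 * m + 1))
variable {V : Type*} [AddCommGroup V] [Module F V] {ρ : Cfsg.Sz F m →* Module.End F V}
variable {φ : F →+* F} {ι : (Fin 4 → F) →+ V}

/-- The weights of the natural module. -/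
def wt (m : ℕ) : Fin 4 → Ex m := ![1, 2 * hh m - 1, 1 - 2 * hh m, -1]

/-- `uM a b - 1`. -/
def uD (m : ℕ) (a b : F) (x : Fin 4 → F) : Fin 4 → F :=
  ![a * x 1 + (b + a * th F m a) * x 2 + fQ (th F m) a b * x 3, th F m a * x 2 + b * x 3, a * x 3, 0]

theorem NatEmb.tor (hι : NatEmb ρ φ ι) (t : Fˣ) (x : Fin 4 → F) :
    ρ (tS hF t) (ι x) = ι fun k => tp (wt m k) t * x k := by
  rw [hι.equiv, mat_tS]
  congr 1
  have h0 : ((t : F)) = tp (1 : Ex m) t := (tp_one hF t).symm
  funext k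
  fin_cases k <;>
    simp [tM, wt, Matrix.mulVec, dotProduct, Fin.sum_univ_four, tp_sub hF, tp_neg hF, th_tp hF, tp_one hF]

theorem NatEmb.pr_ι (hι : NatEmb ρ φ ι) (ω : Ex m) (x : Fin 4 → F) :
    pr hF ρ φ ω (ι x) = ι fun k => if wt m k = ω then x k else 0 := by
  classical
  have hx : ι x = ∑ k, ι (Pi.single k (x k)) := by rw [← map_sum, Finset.univ_sum_single]
  have hk : ∀ k, ι (Pi.single k (x k)) ∈ Eig hF ρ φ (wt m k) := by
    intro k t
    rw [hι.tor hF, ← hι.smul]
    congr 1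
    funext i
    rcases eq_or_ne i k with rfl | hik
    · simp
    · simp [Pi.single_eq_of_ne hik]
  rw [hx, map_sum, show (fun k => if wt m k = ω then x k else 0) =
    ∑ k, if wt m k = ω then Pi.single k (x k) else 0 by
      funext i
      rw [Finset.sum_apply, Finset.sum_eq_single i]
      · split_ifs <;> simp
      · intro k _ hne; split_ifs <;> simp [Pi.single_eq_of_ne (Ne.symm hne)]
      · simp, map_sum]
  refine Finset.sum_congr rfl fun k _ => ?_
  rw [pr_eig hF ρ φ (hk k)]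
  split_ifs <;> simp

theorem NatEmb.D_uS (hι : NatEmb ρ φ ι) (a b : F) (x : Fin 4 → F) :
    D ρ (uS hF a b) (ι x) = ι (uD m a b x) := by
  rw [D_apply, hι.equiv, mat_uS, ← map_add]
  congr 1
  have h2 : (2 : F) = 0 := CharTwo.two_eq_zero
  funext k
  fin_cases k <;> simp [uM, uD, Matrix.mulVec, dotProduct, Fin.sum_univ_four] <;> grind

theorem NatEmb.map_range (hι : NatEmb ρ φ ι) (g : Cfsg.Sz F m) {v : V} (hv : v ∈ ι.range) : ρ g v ∈ ι.range := by
  obtain ⟨x, rfl⟩ := hv
  exact ⟨_, (hι.equiv g x).symm⟩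

theorem NatEmb.smul_range (hι : NatEmb ρ φ ι) (c : F) {v : V} (hv : v ∈ ι.range) : φ c • v ∈ ι.range := by
  obtain ⟨x, rfl⟩ := hv
  exact ⟨_, hι.smul c x⟩

include hF in
/-- Coordinates of an equivariant function are homogeneous. -/
theorem NatEmb.homog (hι : NatEmb ρ φ ι) (f : F → Fin 4 → F) (P : F → V) (hP : ∀ b, ι (f b) = P b)
    (c ω : Ex m) (hPs : ∀ (s : Fˣ) (b : F),
      ρ (tS hF (sub_pow c s)) (P b) = φ (tp (c * ω) s) • P (s * b)) (k : Fin 4) :
    Homog ((wt m k - ω) * c) fun b => f b k := by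
  intro s b
  have h1 := hPs s b
  rw [← hP, ← hP, hι.tor hF, ← hι.smul] at h1
  have h2 := congrFun (hι.inj h1) k
  simp only [Pi.smul_apply, smul_eq_mul, tp_sub_pow hF] at h2
  show f (s * b) k = tp ((wt m k - ω) * c) s * f b k
  rw [sub_mul, tp_sub hF, mul_comm (wt m k) c, mul_comm ω c, div_mul_eq_mul_div, h2,
    mul_div_cancel_left₀ _ (tp_ne_zero _ _)]

include hF in
/-- A coefficient with an exponent of its own vanishes. -/
theorem coef_sep {ι' : Type*} [Fintype ι'] (c : ι' → F) (E : ι' → Ex m) (i : ι')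
    (hE : ∀ k, k ≠ i → c k ≠ 0 → E k ≠ E i) (h : ∀ t : Fˣ, ∑ k, c k * tp (E k) t = 0) : c i = 0 := by
  classical
  have h1 : ∑ t : Fˣ, tp (-(E i)) t * ∑ k, c k * tp (E k) t = 0 := Finset.sum_eq_zero fun t _ => by rw [h t, mul_zero]
  simp only [Finset.mul_sum] at h1
  rw [Finset.sum_comm] at h1
  have h2 : ∀ k, ∑ t : Fˣ, tp (-(E i)) t * (c k * tp (E k) t) = if k = i then c k else 0 := by
    intro k
    simp only [fun t : Fˣ => show tp (-(E i)) t * (c k * tp (E k) t) = c k * tp (E k - E i) t by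
      rw [sub_eq_add_neg, tp_add hF]; ring, ← Finset.mul_sum, sum_tp hF]
    by_cases hk : k = i
    · subst hk; simp
    · rw [if_neg hk]
      by_cases hc : c k = 0
      · rw [hc, zero_mul]
      · rw [if_neg (sub_ne_zero.2 (hE k hk hc)), mul_zero]
  simpa [h2] using h1

end CfsgLib.SzModule
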